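import Mathlib
import Cfsg.Agent.H32.Subnormal
import Cfsg.Agent.H1.Hall
import Cfsg.Agent.H16.OddOrder
import Cfsg.Agent.H33.TwoPrime

/-!
Groups in which the normalizer of every non-subnormal biprimary subgroup is a maximal subgroup:
the property, its core-free form and the first consequences.
-/

set_option autoImplicit false
set_option linter.style.haveILetI false
set_option linter.unusedSectionVars false

namespace H29.MaxNorm

open Subgroup

universe u

/-- The order of `H` has at most two prime divisors. -/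
def IsBiprimary {G : Type*} [Group G] (H : Subgroup G) : Prop :=
  ∃ p q : ℕ, p.Prime ∧ q.Prime ∧ ∀ r : ℕ, r.Prime → r ∣ Nat.card H → r = p ∨ r = q

/-- Normalizers of biprimary subgroups that are not subnormal are maximal. -/
def HasMaxNorm (G : Type*) [Group G] : Prop :=
  ∀ H : Subgroup G, ¬ H.IsSubnormal → IsBiprimary H → IsCoatom (normalizer (H : Set G))

/-- The form of the hypothesis for groups without soluble normal subgroups. -/
structure Core (X : Type*) [Group X] : Prop where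
  coatom : ∀ H : Subgroup X, H ≠ ⊥ → IsBiprimary H → IsCoatom (normalizer (H : Set X))
  rad : ∀ N : Subgroup X, N.Normal → Group.IsSolvable N → N = ⊥
  nsol : ¬ Group.IsSolvable X

variable {G : Type*} [Group G] [Finite G]

theorem isBiprimary_of_dvd {H : Subgroup G} {p q a b : ℕ} (hp : p.Prime) (hq : q.Prime)
    (h : Nat.card H ∣ p ^ a * q ^ b) : IsBiprimary H := by
  refine ⟨p, q, hp, hq, fun r hr hd => ?_⟩
  rcases (Nat.Prime.dvd_mul hr).1 (hd.trans h) with h' | h'
  · exact Or.inl ((Nat.prime_dvd_prime_iff_eq hr hp).1 (hr.dvd_of_dvd_pow h'))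
  · exact Or.inr ((Nat.prime_dvd_prime_iff_eq hr hq).1 (hr.dvd_of_dvd_pow h'))

theorem isBiprimary_of_isPGroup {p : ℕ} (hp : p.Prime) {H : Subgroup G} (hH : IsPGroup p H) :
    IsBiprimary H := by
  haveI := Fact.mk hp
  obtain ⟨a, ha⟩ := IsPGroup.iff_card.1 hH
  exact isBiprimary_of_dvd (a := a) (b := 0) hp hp (by simp [ha])

theorem IsBiprimary.isSolvable {H : Subgroup G} (h : IsBiprimary H) : Group.IsSolvable H := by
  obtain ⟨p, q, hp, hq, hpq⟩ := h
  exact H33.isSolvable_of_two_primes hp hq hpq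

theorem mem_normalizer_of_conj_le {H : Subgroup G} {g : G} (h : ∀ x ∈ H, g * x * g⁻¹ ∈ H) :
    g ∈ normalizer (H : Set G) := by
  have he : H.map (MulAut.conj g).toMonoidHom = H := by
    refine Subgroup.eq_of_le_of_card_ge ?_ ?_
    · rintro _ ⟨x, hx, rfl⟩; exact h x hx
    · rw [Subgroup.card_map_of_injective (MulAut.conj g).injective]
  rw [Subgroup.mem_normalizer_iff]
  intro x
  refine ⟨h x, fun hx => ?_⟩
  rw [← he] at hx
  obtain ⟨y, hy, hyx⟩ := hx
  have : y = x := (MulAut.conj g).injective hyx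
  exact this ▸ hy

theorem conj_mem_of_normalizer {H : Subgroup G} {g x : G} (hg : g ∈ normalizer (H : Set G))
    (hx : x ∈ H) : g * x * g⁻¹ ∈ H := (Subgroup.mem_normalizer_iff.1 hg x).1 hx

/-- In `A ⊔ B`, with `B` normalising `A` of coprime prime power orders, the `p`-elements lie in `A`. -/
theorem mem_left_of_mem_sup {p q : ℕ} [Fact p.Prime] [Fact q.Prime] (hpq : p ≠ q)
    {A B : Subgroup G} (hA : IsPGroup p A) (hB : IsPGroup q B)
    (hn : B ≤ normalizer (A : Set G)) {x : G} (hx : x ∈ A ⊔ B) {k : ℕ}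
    (hk : orderOf x ∣ p ^ k) : x ∈ A := by
  rw [← SetLike.mem_coe, Subgroup.coe_mul_of_right_le_normalizer_left A B hn] at hx
  obtain ⟨a, ha, b, hb, rfl⟩ := Set.mem_mul.1 hx
  -- the image of `x` modulo `A` in its normaliser
  set N := normalizer (A : Set G)
  have haN : a ∈ N := Subgroup.le_normalizer ha
  let f : ↥N →* ↥N ⧸ A.subgroupOf N := QuotientGroup.mk' _
  have hfa : f ⟨a, haN⟩ = 1 := (QuotientGroup.eq_one_iff _).2 (Subgroup.mem_subgroupOf.2 ha)
  have hfx : f ⟨a * b, mul_mem haN (hn hb)⟩ = f ⟨b, hn hb⟩ := by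
    rw [show (⟨a * b, mul_mem haN (hn hb)⟩ : ↥N) = ⟨a, haN⟩ * ⟨b, hn hb⟩ from rfl, map_mul, hfa,
      one_mul]
  obtain ⟨j, hj⟩ := IsPGroup.iff_orderOf.1 hB ⟨b, hb⟩
  have h1 : orderOf (f ⟨b, hn hb⟩) ∣ q ^ j := by
    refine (orderOf_map_dvd f _).trans ?_
    rw [Subgroup.orderOf_mk, ← hj, Subgroup.orderOf_mk]
  have h2 : orderOf (f ⟨b, hn hb⟩) ∣ p ^ k := by
    rw [← hfx]
    refine (orderOf_map_dvd f _).trans ?_
    rwa [Subgroup.orderOf_mk]
  have h3 : orderOf (f ⟨b, hn hb⟩) = 1 := Nat.eq_one_of_dvd_coprimes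
    ((Nat.coprime_primes Fact.out Fact.out).2 hpq |>.pow k j) h2 h1
  have hbA : b ∈ A := Subgroup.mem_subgroupOf.1 ((QuotientGroup.eq_one_iff _).1
    (orderOf_eq_one_iff.1 h3))
  exact mul_mem ha hbA

/-- A prime power element of `A ⊔ B` for the second prime lies in `B` when `B` is normalised too. -/
theorem mem_right_of_mem_sup {p q : ℕ} [Fact p.Prime] [Fact q.Prime] (hpq : p ≠ q)
    {A B : Subgroup G} (hA : IsPGroup p A) (hB : IsPGroup q B)
    (hn : A ≤ normalizer (B : Set G)) {x : G} (hx : x ∈ A ⊔ B) {k : ℕ}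
    (hk : orderOf x ∣ q ^ k) : x ∈ B :=
  mem_left_of_mem_sup hpq.symm hB hA hn (by rwa [sup_comm] at hx) hk

theorem card_sup_dvd {p q : ℕ} [Fact p.Prime] [Fact q.Prime] {A B : Subgroup G}
    (hA : IsPGroup p A) (hB : IsPGroup q B) (hn : B ≤ normalizer (A : Set G)) :
    IsBiprimary (A ⊔ B) := by
  classical
  obtain ⟨a, ha⟩ := IsPGroup.iff_card.1 hA
  obtain ⟨b, hb⟩ := IsPGroup.iff_card.1 hB
  refine ⟨p, q, Fact.out, Fact.out, fun r hr hd => ?_⟩
  haveI := Fact.mk hr
  obtain ⟨x, hx⟩ := exists_prime_orderOf_dvd_card' (G := ↥(A ⊔ B)) r hd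
  by_contra hne
  push Not at hne
  have hxr : orderOf (x : G) = r := by rw [Subgroup.orderOf_coe, hx]
  set N := normalizer (A : Set G)
  have hxN : (x : G) ∈ N := (sup_le Subgroup.le_normalizer hn) x.2
  have hxm := x.2
  rw [← SetLike.mem_coe, Subgroup.coe_mul_of_right_le_normalizer_left A B hn] at hxm
  obtain ⟨u, hu, v, hv, huv⟩ := Set.mem_mul.1 hxm
  let f : ↥N →* ↥N ⧸ A.subgroupOf N := QuotientGroup.mk' _
  have hfx : f ⟨x, hxN⟩ = f ⟨v, hn hv⟩ := by
    rw [show (⟨x, hxN⟩ : ↥N) = ⟨u, Subgroup.le_normalizer hu⟩ * ⟨v, hn hv⟩ from Subtype.ext huv.symm,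
      map_mul, show f ⟨u, Subgroup.le_normalizer hu⟩ = 1 from
        (QuotientGroup.eq_one_iff _).2 (Subgroup.mem_subgroupOf.2 hu), one_mul]
  have h1 : orderOf (f ⟨x, hxN⟩) ∣ q ^ b := by
    rw [hfx]
    refine (orderOf_map_dvd f _).trans ?_
    rw [Subgroup.orderOf_mk, ← hb]
    exact Subgroup.orderOf_dvd_natCard B hv
  have h2 : orderOf (f ⟨x, hxN⟩) ∣ r := by
    refine (orderOf_map_dvd f _).trans ?_
    rw [Subgroup.orderOf_mk, hxr]
  have h3 : f ⟨x, hxN⟩ = 1 := orderOf_eq_one_iff.1 (Nat.eq_one_of_dvd_coprimes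
    (((Nat.coprime_primes hr Fact.out).2 hne.2).pow_right b) h2 h1)
  have h4 : r ∣ p ^ a := hxr ▸ ha ▸ Subgroup.orderOf_dvd_natCard A
    (Subgroup.mem_subgroupOf.1 ((QuotientGroup.eq_one_iff (⟨(x : G), hxN⟩ : ↥N)).1 h3))
  exact hne.1 ((Nat.prime_dvd_prime_iff_eq hr Fact.out).1 (hr.dvd_of_dvd_pow h4))

namespace Core

variable {X : Type*} [Group X] [Finite X] (hX : Core X)
include hX

theorem nontrivial : Nontrivial X := by
  by_contra h
  rw [not_nontrivial_iff_subsingleton] at h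
  exact hX.nsol inferInstance

theorem eq_bot_of_subnormal_pgroup {p : ℕ} [Fact p.Prime] {A : Subgroup X} (hA : A.IsSubnormal)
    (hp : IsPGroup p A) : A = ⊥ := by
  have h1 := H32.isPGroup_le_pCore_of_subnormal hA hp
  haveI := (H1.isPGroup_pCore p X).isNilpotent
  rw [hX.rad _ (H1.pCore_normal' p X) inferInstance] at h1
  exact le_bot_iff.1 h1

theorem normalizer_ne_top {H : Subgroup X} (hH : H ≠ ⊥) (hb : IsBiprimary H) :
    normalizer (H : Set X) ≠ ⊤ := (hX.coatom H hH hb).1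

theorem normalizer_eq {H K : Subgroup X} (hH : H ≠ ⊥) (hHb : IsBiprimary H) (hK : K ≠ ⊥)
    (hKb : IsBiprimary K) (h : normalizer (H : Set X) ≤ normalizer (K : Set X)) :
    normalizer (H : Set X) = normalizer (K : Set X) := by
  rcases eq_or_lt_of_le h with e | e
  · exact e
  · exact absurd ((hX.coatom H hH hHb).2 _ e) (hX.normalizer_ne_top hK hKb)

/-- A maximal normaliser is self-normalising. -/
theorem normalizer_normalizer {H : Subgroup X} (hH : H ≠ ⊥) (hb : IsBiprimary H)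
    (hns : Group.IsSolvable (normalizer (H : Set X)) ∨ ¬ (normalizer (H : Set X)).Normal) :
    normalizer ((normalizer (H : Set X) : Subgroup X) : Set X) = normalizer (H : Set X) := by
  rcases eq_or_lt_of_le (Subgroup.le_normalizer (H := normalizer (H : Set X))) with e | e
  · exact e.symm
  have htop := (hX.coatom H hH hb).2 _ e
  exfalso
  have hn : (normalizer (H : Set X)).Normal := normalizer_eq_top_iff.1 htop
  rcases hns with hs | hs
  · exact hH (le_bot_iff.1 (Subgroup.le_normalizer.trans (hX.rad _ hn hs).le))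
  · exact hs hn

/-- The key lemma: for a `q`-subgroup `K` normalising the `p`-group `R`, the join `R ⊔ K` is normal
in `N(R)`. -/
theorem normalizer_sup {p q : ℕ} [Fact p.Prime] [Fact q.Prime] (hpq : p ≠ q) {R K : Subgroup X}
    (hR : IsPGroup p R) (hR1 : R ≠ ⊥) (hK : IsPGroup q K) (hKR : K ≤ normalizer (R : Set X)) :
    normalizer ((R ⊔ K : Subgroup X) : Set X) = normalizer (R : Set X) := by
  refine hX.normalizer_eq (fun e => hR1 (le_bot_iff.1 (e ▸ le_sup_left)))
    (card_sup_dvd hR hK hKR) hR1 (isBiprimary_of_isPGroup Fact.out hR) fun g hg => ?_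
  refine mem_normalizer_of_conj_le fun r hr => ?_
  obtain ⟨k, hk⟩ := IsPGroup.iff_orderOf.1 hR ⟨r, hr⟩
  refine mem_left_of_mem_sup hpq hR hK hKR (k := k)
    (conj_mem_of_normalizer hg (Subgroup.mem_sup_left hr)) ?_
  rw [show g * r * g⁻¹ = MulAut.conj g r from rfl, MulEquiv.orderOf_eq, ← hk, Subgroup.orderOf_mk]

theorem conj_mem_sup {p q : ℕ} [Fact p.Prime] [Fact q.Prime] (hpq : p ≠ q) {R K : Subgroup X}
    (hR : IsPGroup p R) (hR1 : R ≠ ⊥) (hK : IsPGroup q K) (hKR : K ≤ normalizer (R : Set X))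
    {g k : X} (hg : g ∈ normalizer (R : Set X)) (hk : k ∈ K) : g * k * g⁻¹ ∈ R ⊔ K := by
  rw [← hX.normalizer_sup hpq hR hR1 hK hKR] at hg
  exact conj_mem_of_normalizer hg (Subgroup.mem_sup_right hk)

/-- In a centraliser, coprime prime power subgroups are normal. -/
theorem le_normalizer_of_le_centralizer {p q : ℕ} [Fact p.Prime] [Fact q.Prime] (hpq : p ≠ q)
    {R K L : Subgroup X} (hR : IsPGroup p R) (hR1 : R ≠ ⊥) (hK : IsPGroup q K)
    (hL : L ≤ centralizer (R : Set X)) (hKL : K ≤ L) : L ≤ normalizer (K : Set X) := by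
  intro g hg
  have hLN : L ≤ normalizer (R : Set X) := hL.trans (centralizer_le_normalizer _)
  refine mem_normalizer_of_conj_le fun k hk => ?_
  obtain ⟨j, hj⟩ := IsPGroup.iff_orderOf.1 hK ⟨k, hk⟩
  refine mem_right_of_mem_sup hpq hR hK ?_ (k := j)
    (hX.conj_mem_sup hpq hR hR1 hK (hKL.trans hLN) (hLN hg) hk) ?_
  · intro r hr
    refine mem_normalizer_of_conj_le fun y hy => ?_
    have := Subgroup.mem_centralizer_iff.1 (hL (hKL hy)) r hr
    rw [this, mul_inv_cancel_right]
    exact hy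
  · rw [show g * k * g⁻¹ = MulAut.conj g k from rfl, MulEquiv.orderOf_eq, ← hj, Subgroup.orderOf_mk]

/-- A normal subgroup centralising a nontrivial `p`-group is trivial. -/
theorem eq_bot_of_centralizes {p : ℕ} [Fact p.Prime] {R L : Subgroup X} (hR : IsPGroup p R)
    (hR1 : R ≠ ⊥) (hL : L.Normal) (h : L ≤ centralizer (R : Set X)) : L = ⊥ := by
  classical
  have hsyl : ∀ (q : ℕ), q.Prime → q ≠ p → ¬ q ∣ Nat.card L := by
    intro q hq hqp hd
    haveI := Fact.mk hq
    obtain ⟨Q⟩ : Nonempty (Sylow q L) := inferInstance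
    set K := (Q : Subgroup L).map L.subtype with hK
    have hKL : K ≤ L := Subgroup.map_subtype_le _
    have hKq : IsPGroup q K := Q.isPGroup'.map L.subtype
    have hN := hX.le_normalizer_of_le_centralizer (Ne.symm hqp) hR hR1 hKq h hKL
    have hKn : (K.subgroupOf L).Normal := normal_subgroupOf_of_le_normalizer hN
    have hsub : K.IsSubnormal :=
      Subgroup.IsSubnormal.step K L hKL (hL.isSubnormal) hKn
    have := hX.eq_bot_of_subnormal_pgroup hsub hKq
    rw [hK, Subgroup.map_eq_bot_iff_of_injective _ L.subtype_injective] at this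
    exact Q.ne_bot_of_dvd_card hd this
  refine hX.eq_bot_of_subnormal_pgroup hL.isSubnormal (p := p) ?_
  obtain ⟨k, hk⟩ : ∃ k, Nat.card L = p ^ k := by
    refine ⟨(Nat.card L).primeFactorsList.length, Nat.eq_prime_pow_of_unique_prime_dvd Nat.card_pos.ne' fun {d} hd hdd => ?_⟩
    by_contra hne
    exact hsyl d hd hne hdd
  exact IsPGroup.of_card hk

/-- Nontrivial normal subgroups have even order. -/
theorem two_dvd_of_normal {L : Subgroup X} (hL : L.Normal) (hL1 : L ≠ ⊥) : 2 ∣ Nat.card L := by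
  by_contra h
  exact hL1 (hX.rad L hL (H16.FT.oddOrder (Nat.odd_iff.2 (by omega))))

theorem odd_core : ∀ L : Subgroup X, L.Normal → Odd (Nat.card L) → L = ⊥ := fun L hL ho =>
  hX.rad L hL (H16.FT.oddOrder ho)

theorem center_eq_bot : center X = ⊥ := hX.rad _ inferInstance
  (Group.isSolvable_of_comm fun a b => Subtype.ext (Subgroup.mem_center_iff.1 b.2 a))

end Core

end H29.MaxNorm
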