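import Cfsg.Agent.H29.MaxNorm.CaseOdd

/-!
If all `2`-central involutions have `2`-groups as centralizers, then all involutions do.
-/

set_option autoImplicit false
set_option linter.style.haveILetI false
set_option linter.unusedSectionVars false

namespace H29.MaxNorm

open Subgroup

variable {X : Type*} [Group X] [Finite X]

namespace Core

variable (hX : Core X)
include hX

theorem cit_of_two_central
    (h2c : ∀ (z : X) (P : Sylow 2 X), orderOf z = 2 → z ∈ (P : Subgroup X) →
      (P : Subgroup X) ≤ centralizer ({z} : Set X) → centralizer ({z} : Set X) = (P : Subgroup X))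
    {u : X} (hu : orderOf u = 2) : IsPGroup 2 (centralizer ({u} : Set X)) := by
  classical
  haveI : Fact (Nat.Prime 2) := ⟨Nat.prime_two⟩
  by_contra hnot
  obtain ⟨p, hp, hpd, hp2⟩ :
      ∃ p : ℕ, p.Prime ∧ p ∣ Nat.card (centralizer ({u} : Set X)) ∧ p ≠ 2 := by
    by_contra h
    push Not at h
    refine hnot (IsPGroup.of_card (n := (Nat.card (centralizer ({u} : Set X))).primeFactorsList.length)
      (Nat.eq_prime_pow_of_unique_prime_dvd Nat.card_pos.ne' fun {d} hd hdd => ?_))
    exact h d hd hdd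
  haveI := Fact.mk hp
  obtain ⟨⟨y, hyC⟩, hy⟩ := exists_prime_orderOf_dvd_card' p hpd
  rw [Subgroup.orderOf_mk] at hy
  have hy1 : y ≠ 1 := fun e => by rw [e, orderOf_one] at hy; exact hp.one_lt.ne hy
  have hyu : y * u = u * y := mem_centralizer_singleton_iff.1 hyC
  have hu1 : u ≠ 1 := fun e => by rw [e, orderOf_one] at hu; omega
  have huu := sq_eq_one_of_two hu
  have huC : u ∈ centralizer ({u} : Set X) := mem_centralizer_singleton_iff.2 rfl
  have hN := hX.normalizer_odd hp2 hu (isPGroup_zpowers (k := 1) (by rw [hy, pow_one]))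
    (zpowers_ne_bot' hy1) (zpowers_le.2 hyC)
  -- a Sylow subgroup `S` of `C(u)` inside a Sylow subgroup `P`
  obtain ⟨S0, hS0⟩ := IsPGroup.exists_le_sylow (isPGroup_zpowers (p := 2) (k := 1)
    (x := (⟨u, huC⟩ : centralizer ({u} : Set X))) (by rw [Subgroup.orderOf_mk, hu, pow_one]))
  obtain ⟨P, hP⟩ := (S0.isPGroup'.map (centralizer ({u} : Set X)).subtype).exists_le_sylow
  set S := (P : Subgroup X) ⊓ centralizer ({u} : Set X) with hSdef
  have huP : u ∈ (P : Subgroup X) := hP ⟨_, hS0 (mem_zpowers _), rfl⟩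
  have huS : u ∈ S := ⟨huP, huC⟩
  have hS : IsPGroup 2 S := P.isPGroup'.to_le inf_le_left
  have hSu : S ≤ centralizer ({u} : Set X) := inf_le_right
  have hSP : S ≤ (P : Subgroup X) := inf_le_left
  have hnle : ¬ (P : Subgroup X) ≤ centralizer ({u} : Set X) := by
    intro hle
    have hyP : y ∈ (P : Subgroup X) := h2c u P hu huP hle ▸ hyC
    obtain ⟨i, hi⟩ := IsPGroup.iff_orderOf.1 P.isPGroup' ⟨y, hyP⟩
    rw [Subgroup.orderOf_mk, hy] at hi
    exact hp2 ((Nat.prime_dvd_prime_iff_eq hp Nat.prime_two).1 (hp.dvd_of_dvd_pow hi.dvd))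
  -- a central involution of `P`
  obtain ⟨z, hz, hzP, hPz⟩ : ∃ z : X, orderOf z = 2 ∧ z ∈ (P : Subgroup X) ∧
      (P : Subgroup X) ≤ centralizer ({z} : Set X) := by
    haveI : Nontrivial (P : Subgroup X) :=
      nontrivial_of_ne ⟨u, huP⟩ 1 fun e => hu1 (congrArg Subtype.val e)
    haveI := P.isPGroup'.center_nontrivial
    obtain ⟨k, hk⟩ := IsPGroup.iff_card.1 (P.isPGroup'.to_subgroup (center (P : Subgroup X)))
    have hd : 2 ∣ Nat.card (center (P : Subgroup X)) := by
      rcases Nat.eq_zero_or_pos k with rfl | hk0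
      · exact absurd hk (ne_of_gt (by rw [pow_zero]; exact Finite.one_lt_card))
      · rw [hk]; exact dvd_pow_self 2 hk0.ne'
    obtain ⟨⟨⟨z, hzP⟩, hzc⟩, hz⟩ := exists_prime_orderOf_dvd_card' 2 hd
    rw [Subgroup.orderOf_mk, Subgroup.orderOf_mk] at hz
    exact ⟨z, hz, hzP, fun a ha => mem_centralizer_singleton_iff.2
      (congrArg Subtype.val (Subgroup.mem_center_iff.1 hzc ⟨a, ha⟩))⟩
  have hCz := h2c z P hz hzP hPz
  have hcz : ∀ a ∈ (P : Subgroup X), a * z = z * a := fun a ha =>
    mem_centralizer_singleton_iff.1 (hPz ha)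
  have hz1 : z ≠ 1 := fun e => by rw [e, orderOf_one] at hz; omega
  have hzz := sq_eq_one_of_two hz
  have hzS : z ∈ S := ⟨hzP, mem_centralizer_singleton_iff.2 (hcz u huP).symm⟩
  have hcS : ∀ {a s : X}, a ∈ S → s ∈ S → orderOf s = 2 → a * s = s * a := fun ha hs hs2 =>
    hX.invol_central hp2 hu hy hyC hS hSu ha hs hs2
  -- an element of `P` normalising `S` outside
  obtain ⟨g, hgP, hgS, hgN⟩ : ∃ g ∈ (P : Subgroup X), g ∉ S ∧ ∀ a ∈ S, g * a * g⁻¹ ∈ S := by
    haveI := P.isPGroup'.isNilpotent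
    have hlt : S.subgroupOf (P : Subgroup X) < ⊤ := lt_top_iff_ne_top.2 fun e =>
      hnle ((Subgroup.subgroupOf_eq_top.1 e).trans hSu)
    obtain ⟨⟨g, hgP⟩, hgn, hgS⟩ := SetLike.exists_of_lt
      (Group.normalizerCondition_of_isNilpotent (G := (P : Subgroup X)) _ hlt)
    exact ⟨g, hgP, hgS, fun a ha => Subgroup.mem_subgroupOf.1
      ((Subgroup.mem_normalizer_iff.1 hgn ⟨a, hSP ha⟩).1 (Subgroup.mem_subgroupOf.2 ha))⟩
  have hgu : g * u * g⁻¹ ≠ u := fun e =>
    hgS ⟨hgP, mem_centralizer_singleton_iff.2 (mul_inv_eq_iff_eq_mul.1 e)⟩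
  have hu' : orderOf (g * u * g⁻¹) = 2 := by rw [orderOf_conj_eq, hu]
  have hu'S := hgN u huS
  have hy'u : g * y * g⁻¹ * (g * u * g⁻¹) = g * u * g⁻¹ * (g * y * g⁻¹) := by
    rw [show g * y * g⁻¹ * (g * u * g⁻¹) = g * (y * u) * g⁻¹ by group, hyu]; group
  have only_u : ∀ {w : X}, w ∈ S → orderOf w = 2 → y * w = w * y → w = u := fun {w} hwS hw hyw =>
    hX.eq_of_commute_odd hp2 hp2 hu hw (hcS huS hwS hw) hy hyu hyw hu' (by rw [orderOf_conj_eq, hy])
      hy'u (hcS huS hu'S hu') (hcS hwS hu'S hu') (hX.cent_conj_ne hu hgu)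
  have hzu : z ≠ u := fun e => hnle (e ▸ hPz)
  have hzy : y * z ≠ z * y := fun e => hzu (only_u hzS hz e)
  have hn : ∀ a ∈ S, a * y * a⁻¹ ∈ zpowers y := fun a ha =>
    conj_mem_of_normalizer (hN.symm ▸ hSu ha) (mem_zpowers y)
  have hinv : ∀ {w : X}, w ∈ S → orderOf w = 2 → w = u ∨ w = z ∨ w = u * z := by
    intro w hwS hw
    rcases exists_centralizing hy (sq_eq_one_of_two hw) hzz (hn w hwS) (hn z hzS) with h | h | h
    · exact Or.inl (only_u hwS hw h.symm)
    · exact absurd h.symm hzy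
    · refine Or.inr ?_
      by_cases h1 : w * z = 1
      · exact Or.inl (by rw [eq_inv_of_mul_eq_one_left h1, inv_eq_of_mul_eq_one_right hzz])
      · refine Or.inr ?_
        have hwz : w * z = u := by
          refine only_u (mul_mem hwS hzS) (orderOf_eq_prime ?_ h1) h.symm
          rw [pow_two, show w * z * (w * z) = w * (z * w) * z by group, ← hcz w (hSP hwS),
            show w * (w * z) * z = (w * w) * (z * z) by group, sq_eq_one_of_two hw, hzz, one_mul]
        rw [← hwz, mul_assoc, hzz, mul_one]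
  have hu'eq : g * u * g⁻¹ = u * z := by
    rcases hinv hu'S hu' with e | e | e
    · exact absurd e hgu
    · exfalso
      refine hzu ?_
      calc z = g⁻¹ * (z * g) := by rw [← hcz g hgP]; group
        _ = g⁻¹ * (g * u * g⁻¹ * g) := by rw [e]
        _ = u := by group
    · exact e
  have hguz : g * (u * z) * g⁻¹ = u := by
    rw [show g * (u * z) * g⁻¹ = g * u * g⁻¹ * (g * z * g⁻¹) by group, hu'eq, hcz g hgP,
      mul_inv_cancel_right, mul_assoc, hzz, mul_one]
  -- squares
  have hnu : ∀ {a : X}, a ∈ S → a * a ≠ u := by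
    intro a ha e
    have hc1 : Commute a y := hX.four_commute (k := 1) hp2 hu e (by rw [hy, pow_one]) hyC
    have hc2 : Commute (a * z) y := hX.four_commute (k := 1) hp2 hu
      (by rw [show a * z * (a * z) = a * (z * a) * z by group, ← hcz a (hSP ha),
        show a * (a * z) * z = (a * a) * (z * z) by group, hzz, mul_one, e]) (by rw [hy, pow_one]) hyC
    have := hc1.inv_left.mul_left hc2
    rw [inv_mul_cancel_left] at this
    exact hzy this.eq.symm
  have hsq : ∀ {a : X}, a ∈ S → orderOf (a * a) = 2 → a * a = z := by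
    intro a ha ho
    rcases hinv (mul_mem ha ha) ho with e | e | e
    · exact absurd e (hnu ha)
    · exact e
    · refine absurd ?_ (hnu (hgN a ha))
      rw [show g * a * g⁻¹ * (g * a * g⁻¹) = g * (a * a) * g⁻¹ by group, e, hguz]
  have hfour : ∀ {a : X}, a ∈ S → a * a ≠ 1 → ∃ b ∈ zpowers a, b * b = z := by
    intro a ha hne
    obtain ⟨i, hi⟩ := IsPGroup.iff_orderOf.1 hS ⟨a, ha⟩
    rw [Subgroup.orderOf_mk] at hi
    rcases i with _ | _ | i
    · rw [pow_zero, orderOf_eq_one_iff] at hi; rw [hi, one_mul] at hne; exact absurd rfl hne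
    · exact absurd (sq_eq_one_of_two (by simpa using hi)) hne
    · refine ⟨a ^ 2 ^ i, pow_mem (mem_zpowers a) _, hsq (pow_mem ha _) ?_⟩
      rw [← pow_add, ← two_mul, ← pow_succ', orderOf_pow, hi,
        Nat.gcd_eq_right (pow_dvd_pow 2 (Nat.le_succ _)), Nat.pow_div (Nat.le_succ _) two_pos]
      simp
  have hcy : ∀ {c : X}, c ∈ S → y * c = c * y → c = 1 ∨ c = u := by
    intro c hc hyc
    by_cases h1 : c * c = 1
    · by_cases hc1 : c = 1
      · exact Or.inl hc1
      · exact Or.inr (only_u hc (orderOf_eq_prime (by rw [pow_two, h1]) hc1) hyc)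
    · exfalso
      obtain ⟨b, hb, hbz⟩ := hfour hc h1
      obtain ⟨i, rfl⟩ := mem_zpowers_iff.1 hb
      have hci : Commute y (c ^ i) := (show Commute y c from hyc).zpow_right i
      exact hzy (hbz ▸ (hci.mul_right hci).eq)
  -- `S` is abelian
  have hSab : ∀ {s t : X}, s ∈ S → t ∈ S → s * t = t * s := by
    intro s t hs ht
    set c := t * s * t⁻¹ * s⁻¹ with hc
    have hcmem : c ∈ S := mul_mem (mul_mem (mul_mem ht hs) (inv_mem ht)) (inv_mem hs)
    have hcs : c ∈ zpowers s :=
      mul_mem (hX.conj_mem_zpowers_of_two hp2 hu hy hyC hS hSu ht hs) (inv_mem (mem_zpowers s))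
    have hcy' : y * c = c * y := by
      obtain ⟨i, hi⟩ := mem_zpowers_iff.1 (hn s hs)
      obtain ⟨j, hj⟩ := mem_zpowers_iff.1 (hn t ht)
      have h1 : (s * t) * y * (s * t)⁻¹ = (t * s) * y * (t * s)⁻¹ := by
        calc (s * t) * y * (s * t)⁻¹ = s * (t * y * t⁻¹) * s⁻¹ := by group
          _ = (y ^ i) ^ j := by rw [← hj, ← conj_zpow, hi]
          _ = (y ^ j) ^ i := by rw [← zpow_mul, ← zpow_mul, mul_comm i j]
          _ = t * (s * y * s⁻¹) * t⁻¹ := by rw [← hi, ← conj_zpow, hj]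
          _ = (t * s) * y * (t * s)⁻¹ := by group
      symm
      have h2 : c * y * c⁻¹ = y := by
        calc c * y * c⁻¹ = (t * s) * ((s * t)⁻¹ * y * (s * t)) * (t * s)⁻¹ := by rw [hc]; group
          _ = (t * s) * ((s * t)⁻¹ * y * (s * t)) * (t * s)⁻¹ := rfl
          _ = y := by
            have h3 : (t * s) * ((s * t)⁻¹ * y * (s * t)) * (t * s)⁻¹ =
                (s * t) * ((s * t)⁻¹ * y * (s * t)) * (s * t)⁻¹ := by
              have hyy : (s * t)⁻¹ * y * (s * t) ∈ zpowers y := by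
                have hst : s * t ∈ normalizer ((zpowers y : Subgroup X) : Set X) :=
                  hN.symm ▸ mul_mem (hSu hs) (hSu ht)
                have := conj_mem_of_normalizer (inv_mem hst) (mem_zpowers y)
                rwa [inv_inv] at this
              obtain ⟨k, hk⟩ := mem_zpowers_iff.1 hyy
              rw [← hk, ← conj_zpow, ← conj_zpow, h1]
            rw [h3]; group
      exact mul_inv_eq_iff_eq_mul.1 h2
    rcases hcy hcmem hcy' with e | e
    · exact (mul_inv_eq_iff_eq_mul.1 (mul_inv_eq_one.1 e)).symm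
    · obtain ⟨k, hk⟩ := mem_zpowers_iff.1 hcs
      rw [e] at hk
      rcases Int.even_or_odd k with ⟨j, rfl⟩ | ⟨j, rfl⟩
      · exact absurd (by rw [← zpow_add, hk]) (hnu (zpow_mem hs j))
      · have hord : orderOf s ∣ 2 * (2 * j + 1).natAbs := by
          rw [← Int.natCast_dvd_natCast, Nat.cast_mul, orderOf_dvd_iff_zpow_eq_one]
          have : s ^ ((2 : ℤ) * (2 * j + 1)) = 1 := by rw [mul_comm, zpow_mul, hk, zpow_two, huu]
          rcases Int.natAbs_eq (2 * j + 1) with h | h
          · rw [Nat.cast_ofNat, ← h]; exact this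
          · rw [Nat.cast_ofNat, show ((2 * j + 1).natAbs : ℤ) = -(2 * j + 1) by omega, mul_neg,
              zpow_neg, this, inv_one]
        obtain ⟨i, hi⟩ := IsPGroup.iff_orderOf.1 hS ⟨s, hs⟩
        rw [Subgroup.orderOf_mk] at hi
        have hco : (orderOf s).Coprime (2 * j + 1).natAbs := by
          rw [hi]
          refine Nat.Coprime.pow_left i (Nat.coprime_two_left.2 ?_)
          exact Int.natAbs_odd.2 ⟨j, rfl⟩
        have h2 := hco.dvd_of_dvd_mul_right hord
        rcases (Nat.dvd_prime Nat.prime_two).1 h2 with h | h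
        · rw [orderOf_eq_one_iff.1 h]; simp
        · exact (hcS ht hs h).symm
  -- `S` has index two in `P`
  have hS1 : S ≠ ⊥ := fun e => hu1 ((Subgroup.eq_bot_iff_forall S).1 e u huS)
  have hNS : normalizer (S : Set X) = (P : Subgroup X) := by
    have hle : normalizer (S : Set X) ≤ (P : Subgroup X) := by
      rw [← hCz]
      intro n hnN
      have ho : orderOf (n * z * n⁻¹) = 2 := by rw [orderOf_conj_eq, hz]
      have hno : ∀ w q : X, orderOf q = p → q * w = w * q → n * z * n⁻¹ ≠ w := by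
        intro w q hq hqw e
        have hm : n⁻¹ * q * n ∈ (P : Subgroup X) := by
          rw [← hCz]
          refine mem_centralizer_singleton_iff.2 ?_
          calc n⁻¹ * q * n * z = n⁻¹ * (q * (n * z * n⁻¹)) * n := by group
            _ = n⁻¹ * (n * z * n⁻¹ * q) * n := by rw [e, hqw]
            _ = z * (n⁻¹ * q * n) := by group
        obtain ⟨i, hi⟩ := IsPGroup.iff_orderOf.1 P.isPGroup' ⟨_, hm⟩
        have hq' : orderOf (n⁻¹ * q * n) = p := by
          have := orderOf_conj_eq n⁻¹ q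
          rwa [inv_inv, hq] at this
        rw [Subgroup.orderOf_mk, hq'] at hi
        exact hp2 ((Nat.prime_dvd_prime_iff_eq hp Nat.prime_two).1 (hp.dvd_of_dvd_pow hi.dvd))
      rcases hinv (conj_mem_of_normalizer hnN hzS) ho with e | e | e
      · exact absurd e (hno u y hy hyu)
      · exact mem_centralizer_singleton_iff.2 (mul_inv_eq_iff_eq_mul.1 e)
      · exact absurd e (hu'eq ▸ hno _ (g * y * g⁻¹) (by rw [orderOf_conj_eq, hy]) hy'u)
    rcases eq_or_lt_of_le hle with e | e
    · exact e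
    · exact absurd (((hX.coatom S hS1 (isBiprimary_of_isPGroup Nat.prime_two hS))).2 _ e)
        (hCz ▸ (hX.isCoatom_cent hz).1)
  have hnorm : ∀ {a s : X}, a ∈ (P : Subgroup X) → s ∈ S → a * s * a⁻¹ ∈ S := fun ha hs =>
    conj_mem_of_normalizer (hNS.symm ▸ ha) hs
  have hmove : ∀ {a : X}, a ∈ (P : Subgroup X) → a ∉ S → a * u * a⁻¹ = u * z := by
    intro a ha haS
    rcases hinv (hnorm ha huS) (by rw [orderOf_conj_eq, hu]) with e | e | e
    · exact absurd ⟨ha, mem_centralizer_singleton_iff.2 (mul_inv_eq_iff_eq_mul.1 e)⟩ haS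
    · exfalso
      refine hzu ?_
      calc z = a⁻¹ * (z * a) := by rw [← hcz a ha]; group
        _ = a⁻¹ * (a * u * a⁻¹ * a) := by rw [e]
        _ = u := by group
    · exact e
  have hindex : ∀ {a b : X}, a ∈ (P : Subgroup X) → a ∉ S → b ∈ (P : Subgroup X) → b ∉ S →
      a⁻¹ * b ∈ S := fun {a b} ha haS hb hbS => ⟨(P : Subgroup X).mul_mem ((P : Subgroup X).inv_mem ha) hb,
        mem_centralizer_singleton_iff.2 (mul_inv_eq_iff_eq_mul.1 (by
          calc a⁻¹ * b * u * (a⁻¹ * b)⁻¹ = a⁻¹ * (b * u * b⁻¹) * a := by group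
            _ = a⁻¹ * (a * u * a⁻¹) * a := by rw [hmove hb hbS, hmove ha haS]
            _ = u := by group))⟩
  have hsqS : ∀ {a : X}, a ∈ (P : Subgroup X) → a * a ∈ S := by
    intro a ha
    by_cases h : a ∈ S
    · exact mul_mem h h
    · have := hindex (inv_mem ha) (fun h' => h (by simpa using S.inv_mem h')) ha h
      rwa [inv_inv] at this
  -- a conjugate of `z` outside `S`
  obtain ⟨g1, hg1P, hg1ne⟩ := hX.exists_conj_ne hz hzP
  set g0 := g1 * z * g1⁻¹ with hg0
  have hg0o : orderOf g0 = 2 := by rw [hg0, orderOf_conj_eq, hz]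
  have hg0g0 := sq_eq_one_of_two hg0o
  have hC0 : ∀ {w : X}, w * g0 = g0 * w → g1⁻¹ * w * g1 ∈ (P : Subgroup X) := by
    intro w hw
    rw [← hCz]
    refine mem_centralizer_singleton_iff.2 ?_
    calc g1⁻¹ * w * g1 * z = g1⁻¹ * (w * g0) * g1 := by rw [hg0]; group
      _ = g1⁻¹ * (g0 * w) * g1 := by rw [hw]
      _ = z * (g1⁻¹ * w * g1) := by rw [hg0]; group
  have hno0 : ∀ w q : X, orderOf q = p → q * w = w * q → g0 ≠ w := by
    intro w q hq hqw e
    have hm := hC0 (w := q) (by rw [e, hqw])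
    obtain ⟨i, hi⟩ := IsPGroup.iff_orderOf.1 P.isPGroup' ⟨_, hm⟩
    have hq' : orderOf (g1⁻¹ * q * g1) = p := by
      have := orderOf_conj_eq g1⁻¹ q
      rwa [inv_inv, hq] at this
    rw [Subgroup.orderOf_mk, hq'] at hi
    exact hp2 ((Nat.prime_dvd_prime_iff_eq hp Nat.prime_two).1 (hp.dvd_of_dvd_pow hi.dvd))
  have hg0S : g0 ∉ S := by
    intro h
    rcases hinv h hg0o with e | e | e
    · exact hno0 u y hy hyu e
    · exact hg1ne e
    · exact hu'eq ▸ hno0 _ (g * y * g⁻¹) (by rw [orderOf_conj_eq, hy]) hy'u <| e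
  have hg0u := hmove hg1P hg0S
  have hzg0 : z * g0 = g0 * z := (hcz g0 hg1P).symm
  set k0 := g1⁻¹ * z * g1 with hk0
  have hk0P : k0 ∈ (P : Subgroup X) := hC0 hzg0
  have hk0o : orderOf k0 = 2 := by
    have := orderOf_conj_eq g1⁻¹ z
    rwa [inv_inv, hz] at this
  have hk0S : k0 ∉ S := by
    intro h
    have hkey : ∀ w q : X, orderOf q = p → q * w = w * q → k0 ≠ w := by
      intro w q hq hqw e
      have hm : g1 * q * g1⁻¹ ∈ (P : Subgroup X) := by
        rw [← hCz]
        refine mem_centralizer_singleton_iff.2 ?_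
        calc g1 * q * g1⁻¹ * z = g1 * (q * k0) * g1⁻¹ := by rw [hk0]; group
          _ = g1 * (k0 * q) * g1⁻¹ := by rw [e, hqw]
          _ = z * (g1 * q * g1⁻¹) := by rw [hk0]; group
      obtain ⟨i, hi⟩ := IsPGroup.iff_orderOf.1 P.isPGroup' ⟨_, hm⟩
      rw [Subgroup.orderOf_mk, orderOf_conj_eq, hq] at hi
      exact hp2 ((Nat.prime_dvd_prime_iff_eq hp Nat.prime_two).1 (hp.dvd_of_dvd_pow hi.dvd))
    rcases hinv h hk0o with e | e | e
    · exact hkey u y hy hyu e
    · refine hg1ne ?_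
      calc g0 = g1 * k0 * g1⁻¹ := by rw [e]
        _ = z := by rw [hk0]; group
    · exact hu'eq ▸ hkey _ (g * y * g⁻¹) (by rw [orderOf_conj_eq, hy]) hy'u <| e
  -- `S` is a four group
  have hV : ∀ {a : X}, a ∈ S → a * a = 1 := by
    intro a' ha'
    by_contra hne
    obtain ⟨a, hazp, haz⟩ := hfour ha' hne
    have ha : a ∈ S := zpowers_le.2 ha' hazp
    obtain ⟨c, hc, hcz2, hcg⟩ : ∃ c ∈ S, c * c = z ∧ g0 * c * g0⁻¹ = c := by
      set b := g0 * a * g0⁻¹ with hb
      have hbS : b ∈ S := hnorm hg1P ha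
      have hbz : b * b = z := by
        rw [hb, show g0 * a * g0⁻¹ * (g0 * a * g0⁻¹) = g0 * (a * a) * g0⁻¹ by group, haz,
          ← hzg0, mul_inv_cancel_right]
      have hd : (a⁻¹ * b) * (a⁻¹ * b) = 1 := by
        rw [show a⁻¹ * b * (a⁻¹ * b) = a⁻¹ * (b * a⁻¹) * b by group, hSab hbS (inv_mem ha),
          show a⁻¹ * (a⁻¹ * b) * b = (a * a)⁻¹ * (b * b) by group, haz, hbz, inv_mul_cancel]
      have hback : g0 * b * g0⁻¹ = a := by
        rw [hb, show g0 * (g0 * a * g0⁻¹) * g0⁻¹ = (g0 * g0) * a * (g0 * g0)⁻¹ by group, hg0g0,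
          one_mul, inv_one, mul_one]
      by_cases hd1 : a⁻¹ * b = 1
      · exact ⟨a, ha, haz, (inv_mul_eq_one.1 hd1).symm⟩
      have hgz : g0 * z * g0⁻¹ = z := by rw [← hzg0, mul_inv_cancel_right]
      rcases hinv (mul_mem (inv_mem ha) hbS) (orderOf_eq_prime (by rw [pow_two, hd]) hd1) with
        e | e | e
      · exfalso
        rw [inv_mul_eq_iff_eq_mul] at e
        rw [e, show g0 * (a * u) * g0⁻¹ = b * (g0 * u * g0⁻¹) by rw [hb]; group, hg0u, e,
          show a * u * (u * z) = a * (u * u) * z by group, huu, mul_one] at hback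
        exact hz1 (mul_left_cancel (hback.trans (mul_one a).symm))
      · refine ⟨a * u, mul_mem ha huS, ?_, ?_⟩
        · rw [show a * u * (a * u) = a * (u * a) * u by group, hSab huS ha,
            show a * (a * u) * u = (a * a) * (u * u) by group, huu, mul_one, haz]
        · rw [inv_mul_eq_iff_eq_mul] at e
          rw [show g0 * (a * u) * g0⁻¹ = b * (g0 * u * g0⁻¹) by rw [hb]; group, hg0u, e,
            show a * z * (u * z) = a * (z * u) * z by group, ← hcz u huP,
            show a * (u * z) * z = a * u * (z * z) by group, hzz, mul_one]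
      · exfalso
        rw [inv_mul_eq_iff_eq_mul] at e
        rw [e, show g0 * (a * (u * z)) * g0⁻¹ = b * (g0 * u * g0⁻¹) * (g0 * z * g0⁻¹) by rw [hb]; group,
          hg0u, hgz, e, show a * (u * z) * (u * z) * z = a * u * (z * u) * (z * z) by group,
          ← hcz u huP, hzz, mul_one, show a * u * (u * z) = a * (u * u) * z by group, huu,
          mul_one] at hback
        exact hz1 (mul_left_cancel (hback.trans (mul_one a).symm))
    have hc' : g1⁻¹ * c * g1 ∈ (P : Subgroup X) := hC0 (mul_inv_eq_iff_eq_mul.1 hcg).symm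
    refine hk0S ?_
    have := hsqS hc'
    rwa [show g1⁻¹ * c * g1 * (g1⁻¹ * c * g1) = g1⁻¹ * (c * c) * g1 by group, hcz2] at this
  have hS4 : ∀ {s : X}, s ∈ S → s = 1 ∨ s = u ∨ s = z ∨ s = u * z := by
    intro s hs
    by_cases h1 : s = 1
    · exact Or.inl h1
    · exact Or.inr (hinv hs (orderOf_eq_prime (by rw [pow_two, hV hs]) h1))
  have hout : ∀ {k a : X}, k ∈ (P : Subgroup X) → a ∈ (P : Subgroup X) → a ∉ S →
      k * a * k⁻¹ = a ∨ k * a * k⁻¹ = a * z := by
    intro k a hk ha haS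
    have haSS : ∀ s ∈ S, s * a * s⁻¹ = a ∨ s * a * s⁻¹ = a * z := by
      intro s hs
      have hau : u * a = a * (u * z) := by
        have h1 := hmove ha haS
        have h2 : a * (u * z) * a⁻¹ = u := by
          rw [show a * (u * z) * a⁻¹ = a * u * a⁻¹ * (a * z * a⁻¹) by group, h1, hcz a ha,
            mul_inv_cancel_right, mul_assoc, hzz, mul_one]
        exact (mul_inv_eq_iff_eq_mul.1 h2).symm
      rcases hS4 hs with e | e | e | e
      · left; rw [e]; group
      · right
        rw [e, hau, show a * (u * z) * u⁻¹ = a * (u * z * u⁻¹) by group, hcz u huP,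
          mul_inv_cancel_right]
      · left; rw [e, ← hcz a ha, mul_inv_cancel_right]
      · right
        rw [e, show u * z * a * (u * z)⁻¹ = u * (z * a * z⁻¹) * u⁻¹ by group, ← hcz a ha,
          mul_inv_cancel_right, hau, show a * (u * z) * u⁻¹ = a * (u * z * u⁻¹) by group,
          hcz u huP, mul_inv_cancel_right]
    by_cases hkS : k ∈ S
    · exact haSS k hkS
    · have hks : k = a * (a⁻¹ * k) := by group
      rcases haSS _ (hindex ha haS hk hkS) with e | e
      · left
        calc k * a * k⁻¹ = a * (a⁻¹ * k * a * (a⁻¹ * k)⁻¹) * a⁻¹ := by group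
          _ = a := by rw [e]; group
      · right
        calc k * a * k⁻¹ = a * (a⁻¹ * k * a * (a⁻¹ * k)⁻¹) * a⁻¹ := by group
          _ = a * (a * z) * a⁻¹ := by rw [e]
          _ = a * z := by
            rw [show a * (a * z) * a⁻¹ = a * (a * z * a⁻¹) by group, hcz a ha, mul_inv_cancel_right]
            exact hcz a ha
  -- the four group `⟨z, g0⟩`
  set W := zpowers z ⊔ zpowers g0 with hW
  have hzp2 : ∀ {t : X}, orderOf t = 2 → IsPGroup 2 (zpowers t) := fun {t} ht =>
    isPGroup_zpowers (k := 1) (by rw [ht, pow_one])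
  have hW2 : IsPGroup 2 W := P.isPGroup'.to_le (sup_le (zpowers_le.2 hzP) (zpowers_le.2 hg1P))
  have hW1 : W ≠ ⊥ := fun e =>
    hz1 ((Subgroup.eq_bot_iff_forall W).1 e z (Subgroup.mem_sup_left (mem_zpowers z)))
  have hzW : z ∈ W := Subgroup.mem_sup_left (mem_zpowers z)
  have hg0W : g0 ∈ W := Subgroup.mem_sup_right (mem_zpowers g0)
  have hgen : ∀ {x : X}, x * z * x⁻¹ ∈ W → x * g0 * x⁻¹ ∈ W → x ∈ normalizer (W : Set X) := by
    intro x h1 h2
    refine mem_normalizer_of_conj_le fun w hw => ?_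
    have : W ≤ W.comap (MulAut.conj x).toMonoidHom :=
      sup_le (zpowers_le.2 h1) (zpowers_le.2 h2)
    exact this hw
  have hco := hX.coatom W hW1 (isBiprimary_of_isPGroup Nat.prime_two hW2)
  have hPle : centralizer ({z} : Set X) ≤ normalizer (W : Set X) := by
    rw [hCz]
    intro x hx
    refine hgen (by rw [hcz x hx, mul_inv_cancel_right]; exact hzW) ?_
    rcases hout hx hg1P hg0S with e | e <;> rw [e]
    · exact hg0W
    · exact mul_mem hg0W hzW
  have hP0le : centralizer ({g0} : Set X) ≤ normalizer (W : Set X) := by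
    intro x hx
    have hxg := mem_centralizer_singleton_iff.1 hx
    refine hgen ?_ (by rw [hxg, mul_inv_cancel_right]; exact hg0W)
    have hxz : x * z * x⁻¹ = g1 * ((g1⁻¹ * x * g1) * k0 * (g1⁻¹ * x * g1)⁻¹) * g1⁻¹ := by
      rw [hk0]; group
    rcases hout (hC0 hxg) hk0P hk0S with e | e <;> rw [hxz, e]
    · rw [hk0, show g1 * (g1⁻¹ * z * g1) * g1⁻¹ = z by group]; exact hzW
    · rw [hk0, show g1 * (g1⁻¹ * z * g1 * z) * g1⁻¹ = z * g0 by rw [hg0]; group]
      exact mul_mem hzW hg0W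
  have heq : centralizer ({g0} : Set X) = centralizer ({z} : Set X) := by
    have e1 : centralizer ({z} : Set X) = normalizer (W : Set X) := by
      rcases eq_or_lt_of_le hPle with e | e
      · exact e
      · exact absurd ((hX.isCoatom_cent hz).2 _ e) hco.1
    have e2 : centralizer ({g0} : Set X) = normalizer (W : Set X) := by
      rcases eq_or_lt_of_le hP0le with e | e
      · exact e
      · exact absurd ((hX.isCoatom_cent hg0o).2 _ e) hco.1
    rw [e1, e2]
  have huC0 : u * g0 = g0 * u :=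
    mem_centralizer_singleton_iff.1 (heq.symm ▸ hPz huP : u ∈ centralizer ({g0} : Set X))
  refine hg0S ⟨hg1P, mem_centralizer_singleton_iff.2 huC0.symm⟩

end Core

end H29.MaxNorm
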