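import Cfsg.Agent.H29.MaxNorm.Local
import Cfsg.Agent.H85.BrauerSuzuki
import Cfsg.Agent.H1.Cores
import Cfsg.Agent.S0508

/-!
The case where the centralizer of a `2`-central involution has an element of odd prime order.
-/

set_option autoImplicit false
set_option linter.style.haveILetI false
set_option linter.unusedSectionVars false

namespace H29.MaxNorm

open Subgroup

variable {X : Type*} [Group X] [Finite X]

theorem sq_eq_one_of_two {a : X} (ha : orderOf a = 2) : a * a = 1 := by
  rw [← pow_two, ← ha]; exact pow_orderOf_eq_one a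

theorem orderOf_conj_eq (g a : X) : orderOf (g * a * g⁻¹) = orderOf a :=
  MulEquiv.orderOf_eq (MulAut.conj g) a

/-- A `2`-element normalising a Sylow `2`-subgroup lies in it. -/
theorem mem_sylow_of_two_element {p : ℕ} [Fact p.Prime] (P : Sylow p X) {x : X} {k : ℕ}
    (hx : x ∈ normalizer ((P : Subgroup X) : Set X)) (hk : orderOf x ∣ p ^ k) :
    x ∈ (P : Subgroup X) := by
  have h := IsPGroup.to_sup_of_normal_right' (isPGroup_zpowers hk) P.isPGroup' (zpowers_le.2 hx)
  have := P.is_maximal' h le_sup_right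
  exact this ▸ Subgroup.mem_sup_left (mem_zpowers x)

namespace Core

variable (hX : Core X) {p : ℕ} [Fact p.Prime] {z y : X} {P : Sylow 2 X}
include hX

theorem cent_conj_ne {g : X} (hz : orderOf z = 2) (h : g * z * g⁻¹ ≠ z) :
    centralizer ({g * z * g⁻¹} : Set X) ≠ centralizer ({z} : Set X) := by
  intro e
  have hg : g ∈ normalizer ((centralizer ({z} : Set X) : Subgroup X) : Set X) := by
    refine mem_normalizer_of_conj_le fun x hx => ?_
    rw [← e]
    refine mem_centralizer_singleton_iff.2 ?_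
    calc g * x * g⁻¹ * (g * z * g⁻¹) = g * (x * z) * g⁻¹ := by group
      _ = g * (z * x) * g⁻¹ := by rw [mem_centralizer_singleton_iff.1 hx]
      _ = g * z * g⁻¹ * (g * x * g⁻¹) := by group
  rw [hX.normalizer_cent hz] at hg
  exact h (by rw [mem_centralizer_singleton_iff.1 hg, mul_inv_cancel_right])

/-- An involution in the centre of a Sylow `2`-subgroup is not isolated there. -/
theorem exists_conj_ne (hz : orderOf z = 2) (hzP : z ∈ (P : Subgroup X)) :
    ∃ g : X, g * z * g⁻¹ ∈ (P : Subgroup X) ∧ g * z * g⁻¹ ≠ z := by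
  by_contra h
  push Not at h
  have hzc := H85.zStar (H85.isolated_of_sylow P hz hzP h)
  haveI := H1.pPrimeCore_normal' 2 X
  have hO : Cfsg.pPrimeCore 2 X = ⊥ :=
    hX.odd_core _ inferInstance (Nat.coprime_two_right.1 (H1.card_pPrimeCore_coprime 2 X))
  have hc : z ∈ center X := Subgroup.mem_center_iff.2 fun g => by
    have := hzc g
    rw [hO, Subgroup.mem_bot, mul_inv_eq_one, mul_inv_eq_iff_eq_mul] at this
    exact this.symm
  rw [hX.center_eq_bot, Subgroup.mem_bot] at hc
  rw [hc, orderOf_one] at hz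
  omega

section
variable (hp : p ≠ 2) (hz : orderOf z = 2) (hy : orderOf y = p) (hyz : y * z = z * y)
  (hzP : z ∈ (P : Subgroup X)) (hPz : (P : Subgroup X) ≤ centralizer ({z} : Set X))
include hp hz hy hyz hzP hPz

theorem P_invol_central {g s : X} (hg : g ∈ (P : Subgroup X)) (hs : s ∈ (P : Subgroup X))
    (hs2 : orderOf s = 2) : g * s = s * g :=
  hX.invol_central hp hz hy (mem_centralizer_singleton_iff.2 hyz) P.isPGroup' hPz hg hs hs2

theorem only_z {w : X} (hw : orderOf w = 2) (hwP : w ∈ (P : Subgroup X)) (hyw : y * w = w * y) :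
    w = z := by
  obtain ⟨g, hgP, hgne⟩ := hX.exists_conj_ne hz hzP
  refine hX.eq_of_commute_odd (p := p) (q := p) hp hp hz hw
    (mem_centralizer_singleton_iff.1 (hPz hwP)).symm hy hyz hyw (t' := g * z * g⁻¹) (y' := g * y * g⁻¹)
    (by rw [orderOf_conj_eq, hz]) (by rw [orderOf_conj_eq, hy]) ?_
    (mem_centralizer_singleton_iff.1 (hPz hgP)).symm
    (hX.P_invol_central hp hz hy hyz hzP hPz hwP hgP (by rw [orderOf_conj_eq, hz]))
    (hX.cent_conj_ne hz hgne)
  calc g * y * g⁻¹ * (g * z * g⁻¹) = g * (y * z) * g⁻¹ := by group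
    _ = g * (z * y) * g⁻¹ := by rw [hyz]
    _ = g * z * g⁻¹ * (g * y * g⁻¹) := by group

/-- The involutions of `P`: `z`, a conjugate `z'` and their product. -/
theorem invol_mem {z' w : X} (hz' : orderOf z' = 2) (hz'P : z' ∈ (P : Subgroup X)) (hne : z' ≠ z)
    (hw : orderOf w = 2) (hwP : w ∈ (P : Subgroup X)) : w = z ∨ w = z' ∨ w = z * z' := by
  have hy1 : y ≠ 1 := fun e => by rw [e, orderOf_one] at hy; exact (Fact.out : p.Prime).one_lt.ne hy
  have hN := hX.normalizer_odd hp hz (isPGroup_zpowers (k := 1) (by rw [hy, pow_one]))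
    (zpowers_ne_bot' hy1) (zpowers_le.2 (mem_centralizer_singleton_iff.2 hyz))
  have hn : ∀ a ∈ (P : Subgroup X), a * y * a⁻¹ ∈ zpowers y := fun a ha =>
    conj_mem_of_normalizer (hN.symm ▸ hPz ha) (mem_zpowers y)
  rcases exists_centralizing hy (sq_eq_one_of_two hw) (sq_eq_one_of_two hz') (hn w hwP) (hn z' hz'P)
    with h | h | h
  · exact Or.inl (hX.only_z hp hz hy hyz hzP hPz hw hwP h.symm)
  · exact absurd (hX.only_z hp hz hy hyz hzP hPz hz' hz'P h.symm) hne
  · by_cases h1 : w * z' = 1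
    · exact Or.inr (Or.inl (by rw [eq_inv_of_mul_eq_one_left h1,
        inv_eq_of_mul_eq_one_right (sq_eq_one_of_two hz')]))
    · refine Or.inr (Or.inr ?_)
      have hc := hX.P_invol_central hp hz hy hyz hzP hPz hwP hz'P hz'
      have hwz : w * z' = z := by
        refine hX.only_z hp hz hy hyz hzP hPz (orderOf_eq_prime ?_ h1) (mul_mem hwP hz'P) h.symm
        rw [pow_two, show w * z' * (w * z') = w * (z' * w) * z' by group, ← hc,
          show w * (w * z') * z' = (w * w) * (z' * z') by group, sq_eq_one_of_two hw,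
          sq_eq_one_of_two hz', one_mul]
      rw [← hwz, mul_assoc, sq_eq_one_of_two hz', mul_one]

theorem exists_normalizer_conj {g : X} (hgP : g * z * g⁻¹ ∈ (P : Subgroup X)) :
    ∃ n ∈ normalizer ((P : Subgroup X) : Set X), n * z * n⁻¹ = g * z * g⁻¹ := by
  haveI : Fact (Nat.Prime 2) := ⟨Nat.prime_two⟩
  obtain ⟨n, hn, he⟩ := Sylow.conj_eq_normalizer_conj_of_mem_centralizer P z g⁻¹
    (Subgroup.mem_centralizer_iff.2 fun a ha => mem_centralizer_singleton_iff.1 (hPz ha))
    (Subgroup.mem_centralizer_iff.2 fun a ha => by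
      rw [inv_inv]
      exact hX.P_invol_central hp hz hy hyz hzP hPz ha hgP (by rw [orderOf_conj_eq, hz]))
  rw [inv_inv] at he
  exact ⟨n⁻¹, inv_mem hn, by rw [inv_inv, he]⟩

/-- An element of order three on the involutions of `P`. -/
theorem exists_cycle : ∃ n ∈ normalizer ((P : Subgroup X) : Set X),
    n * z * n⁻¹ ≠ z ∧ n * (n * z * n⁻¹) * n⁻¹ = z * (n * z * n⁻¹) ∧
      n * (z * (n * z * n⁻¹)) * n⁻¹ = z := by
  obtain ⟨g, hgP, hgne⟩ := hX.exists_conj_ne hz hzP
  obtain ⟨n, hn, hne⟩ := hX.exists_normalizer_conj hp hz hy hyz hzP hPz hgP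
  rw [← hne] at hgP hgne
  have hn' := conj_mem_of_normalizer hn hgP
  have ho : orderOf (n * z * n⁻¹) = 2 := by rw [orderOf_conj_eq, hz]
  have hswap : n * (n * z * n⁻¹) * n⁻¹ ≠ z := by
    intro e
    obtain ⟨i, m, hm, ho2⟩ := Nat.exists_eq_two_pow_mul_odd (orderOf_pos n).ne'
    haveI : Fact (Nat.Prime 2) := ⟨Nat.prime_two⟩
    have hmP : n ^ m ∈ (P : Subgroup X) := mem_sylow_of_two_element P (k := i) (pow_mem hn m)
      (orderOf_dvd_of_pow_eq_one (by rw [← pow_mul, mul_comm, ← ho2, pow_orderOf_eq_one]))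
    have h2 : Commute (n ^ 2) z := by
      have : n ^ 2 * z * (n ^ 2)⁻¹ = z := by
        refine Eq.trans ?_ e
        rw [pow_two]; group
      exact mul_inv_eq_iff_eq_mul.1 this
    have hmz : Commute (n ^ m) z := mem_centralizer_singleton_iff.1 (hPz hmP)
    obtain ⟨j, rfl⟩ := hm
    rw [pow_succ, pow_mul] at hmz
    have hj : Commute ((n ^ 2) ^ j) z := h2.pow_left j
    have : Commute n z := by
      have := hj.inv_left.mul_left hmz
      rwa [inv_mul_cancel_left] at this
    exact hgne (by rw [this.eq, mul_inv_cancel_right])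
  rcases hX.invol_mem hp hz hy hyz hzP hPz ho hgP hgne (by rw [orderOf_conj_eq, ho]) hn' with
    h | h | h
  · exact absurd h hswap
  · exfalso
    refine hgne ?_
    calc n * z * n⁻¹ = n⁻¹ * (n * (n * z * n⁻¹) * n⁻¹) * n := by group
      _ = z := by rw [h]; group
  · refine ⟨n, hn, hgne, h, ?_⟩
    have h2 : orderOf (z * (n * z * n⁻¹)) = 2 := by rw [← h, orderOf_conj_eq, ho]
    have hP2 : n * (z * (n * z * n⁻¹)) * n⁻¹ ∈ (P : Subgroup X) :=
      conj_mem_of_normalizer hn (mul_mem hzP hgP)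
    rcases hX.invol_mem hp hz hy hyz hzP hPz ho hgP hgne (by rw [orderOf_conj_eq, h2]) hP2 with
      h' | h' | h'
    · exact h'
    · exfalso
      have h0 : z * (n * z * n⁻¹) = z := mul_left_cancel (mul_right_cancel h')
      have := mul_left_cancel (h0.trans (mul_one z).symm)
      rw [this, orderOf_one] at ho
      omega
    · exfalso
      have h0 : z * (n * z * n⁻¹) = n * z * n⁻¹ := mul_left_cancel (mul_right_cancel (h'.trans h.symm))
      have := mul_right_cancel (h0.trans (one_mul (n * z * n⁻¹)).symm)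
      rw [this, orderOf_one] at hz
      omega

theorem sq_mem_P {s : X} (hs : s ∈ (P : Subgroup X)) : s * s = 1 := by
  have hfree : ∀ a ∈ (P : Subgroup X), orderOf (a * a) ≠ 2 := by
    intro a ha ho
    obtain ⟨n, hn, hne, h1, h2⟩ := hX.exists_cycle hp hz hy hyz hzP hPz
    have hgP := conj_mem_of_normalizer hn hzP
    have ho' : orderOf (n * z * n⁻¹) = 2 := by rw [orderOf_conj_eq, hz]
    obtain ⟨s, hsP, hss⟩ : ∃ s ∈ (P : Subgroup X), s * s = z := by
      have key : ∀ b ∈ (P : Subgroup X), n * b * n⁻¹ * (n * b * n⁻¹) = n * (b * b) * n⁻¹ :=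
        fun b _ => by group
      rcases hX.invol_mem hp hz hy hyz hzP hPz ho' hgP hne ho (mul_mem ha ha) with e | e | e
      · exact ⟨a, ha, e⟩
      · refine ⟨_, conj_mem_of_normalizer hn (conj_mem_of_normalizer hn ha), ?_⟩
        rw [key _ (conj_mem_of_normalizer hn ha), key a ha, e, h1, h2]
      · exact ⟨_, conj_mem_of_normalizer hn ha, by rw [key a ha, e, h2]⟩
    have hyz' : y ∈ centralizer ({z} : Set X) := mem_centralizer_singleton_iff.2 hyz
    have hc1 : Commute s y := hX.four_commute (k := 1) hp hz hss (by rw [hy, pow_one]) hyz'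
    have hsz' := hX.P_invol_central hp hz hy hyz hzP hPz hsP hgP ho'
    have hc2 : Commute (s * (n * z * n⁻¹)) y := hX.four_commute (k := 1) hp hz
      (by rw [show s * (n * z * n⁻¹) * (s * (n * z * n⁻¹)) = s * ((n * z * n⁻¹) * s) * (n * z * n⁻¹) by
            group, ← hsz', show s * (s * (n * z * n⁻¹)) * (n * z * n⁻¹) =
            (s * s) * ((n * z * n⁻¹) * (n * z * n⁻¹)) by group, sq_eq_one_of_two ho', hss, mul_one])
      (by rw [hy, pow_one]) hyz'
    have hc3 : Commute (n * z * n⁻¹) y := by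
      have := hc1.inv_left.mul_left hc2
      rwa [inv_mul_cancel_left] at this
    exact hne (hX.only_z hp hz hy hyz hzP hPz ho' hgP hc3.eq.symm)
  obtain ⟨i, hi⟩ := IsPGroup.iff_orderOf.1 P.isPGroup' ⟨s, hs⟩
  rw [Subgroup.orderOf_mk] at hi
  rcases i with _ | _ | i
  · rw [pow_zero, orderOf_eq_one_iff] at hi; rw [hi, one_mul]
  · exact sq_eq_one_of_two (by simpa using hi)
  · exfalso
    refine hfree (s ^ 2 ^ i) (pow_mem hs _) ?_
    rw [← pow_add, ← two_mul, ← pow_succ', orderOf_pow, hi,
      Nat.gcd_eq_right (pow_dvd_pow 2 (Nat.le_succ _)), Nat.pow_div (Nat.le_succ _) two_pos]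
    simp

theorem card_P : Nat.card (P : Subgroup X) = 4 := by
  classical
  obtain ⟨n, hn, hne, h1, -⟩ := hX.exists_cycle hp hz hy hyz hzP hPz
  have hgP := conj_mem_of_normalizer hn hzP
  have ho : orderOf (n * z * n⁻¹) = 2 := by rw [orderOf_conj_eq, hz]
  have ho2 : orderOf (z * (n * z * n⁻¹)) = 2 := by rw [← h1, orderOf_conj_eq, ho]
  have hset : ((P : Subgroup X) : Set X) = ({1, z, n * z * n⁻¹, z * (n * z * n⁻¹)} : Set X) := by
    ext a
    simp only [SetLike.mem_coe, Set.mem_insert_iff, Set.mem_singleton_iff]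
    constructor
    · intro ha
      rcases eq_or_ne a 1 with rfl | ha1
      · exact Or.inl rfl
      · exact Or.inr (hX.invol_mem hp hz hy hyz hzP hPz ho hgP hne
          (orderOf_eq_prime (by rw [pow_two]; exact hX.sq_mem_P hp hz hy hyz hzP hPz ha) ha1) ha)
    · rintro (rfl | rfl | rfl | rfl)
      exacts [one_mem _, hzP, hgP, mul_mem hzP hgP]
  show Nat.card ((P : Subgroup X) : Set X) = 4
  have hz1 : z ≠ 1 := fun e => by rw [e, orderOf_one] at hz; omega
  have hn1 : n * z * n⁻¹ ≠ 1 := fun e => by rw [e, orderOf_one] at ho; omega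
  have hm1 : z * (n * z * n⁻¹) ≠ 1 := fun e => by rw [e, orderOf_one] at ho2; omega
  rw [hset, Nat.card_coe_set_eq]
  exact Set.ncard_eq_four.2 ⟨1, z, n * z * n⁻¹, z * (n * z * n⁻¹), hz1.symm, hn1.symm, hm1.symm,
    hne.symm, fun e => hn1 (mul_left_cancel (e.symm.trans (mul_one z).symm)),
    fun e => hz1 (mul_right_cancel (e.symm.trans (one_mul _).symm)), rfl⟩

theorem card_cent : Nat.card (centralizer ({z} : Set X)) = 4 * p := by
  haveI : Fact (Nat.Prime 2) := ⟨Nat.prime_two⟩
  have h4 := hX.card_P hp hz hy hyz hzP hPz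
  have hyC : y ∈ centralizer ({z} : Set X) := mem_centralizer_singleton_iff.2 hyz
  have hpodd : Odd p := (Fact.out : p.Prime).odd_of_ne_two hp
  refine Nat.dvd_antisymm ((Nat.dvd_iff_prime_pow_dvd_dvd _ _).2 fun r k hr hd => ?_)
    (Nat.Coprime.mul_dvd_of_dvd_of_dvd ?_ (h4 ▸ card_dvd_of_le hPz)
      (hy ▸ Subgroup.orderOf_dvd_natCard _ hyC))
  · haveI := Fact.mk hr
    by_cases hr2 : r = 2
    · subst hr2
      have hX2 : 2 ^ k ∣ Nat.card X := hd.trans (card_subgroup_dvd_card _)
      have h4' := Sylow.card_eq_multiplicity P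
      rw [h4] at h4'
      refine dvd_mul_of_dvd_left ?_ p
      rw [h4']
      exact pow_dvd_pow 2 ((hr.pow_dvd_iff_le_factorization Nat.card_pos.ne').1 hX2)
    · obtain ⟨K, hK⟩ := Sylow.exists_subgroup_card_pow_prime (G := centralizer ({z} : Set X)) r hd
      refine dvd_mul_of_dvd_right ?_ 4
      rw [← hK, ← Subgroup.card_map_of_injective (f := (centralizer ({z} : Set X)).subtype)
        (Subgroup.subtype_injective _), ← hy, ← Nat.card_zpowers y]
      obtain ⟨n, hn, hne, -⟩ := hX.exists_cycle hp hz hy hyz hzP hPz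
      refine card_dvd_of_le ?_
      rintro _ ⟨a, ha, rfl⟩
      refine hX.odd_mem_zpowers (k := k) hp hr2 hz hy hyC (w := n * z * n⁻¹)
        (by rw [orderOf_conj_eq, hz]) (hPz (conj_mem_of_normalizer hn hzP))
        (hX.cent_conj_ne hz hne) ?_ a.2
      rw [coe_subtype, Subgroup.orderOf_coe, ← hK]
      exact Subgroup.orderOf_dvd_natCard K ha
  · exact (show Nat.Coprime 2 p from Nat.coprime_two_left.2 hpodd).pow_left 2

theorem isSimple : IsSimpleGroup X := by
  haveI : Fact (Nat.Prime 2) := ⟨Nat.prime_two⟩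
  haveI := hX.nontrivial
  obtain ⟨n, hn, hne, h1, h2⟩ := hX.exists_cycle hp hz hy hyz hzP hPz
  have hgP := conj_mem_of_normalizer hn hzP
  have ho : orderOf (n * z * n⁻¹) = 2 := by rw [orderOf_conj_eq, hz]
  have hyC : y ∈ centralizer ({z} : Set X) := mem_centralizer_singleton_iff.2 hyz
  have h4 := hX.card_P hp hz hy hyz hzP hPz
  have hcomm : ∀ a ∈ (P : Subgroup X), ∀ b ∈ (P : Subgroup X), a * b = b * a := by
    intro a ha b hb
    rcases eq_or_ne b 1 with rfl | hb1
    · simp
    · exact hX.P_invol_central hp hz hy hyz hzP hPz ha hb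
        (orderOf_eq_prime (by rw [pow_two]; exact hX.sq_mem_P hp hz hy hyz hzP hPz hb) hb1)
  -- an element of `N(P)` fixing `z` lies in `P`
  have hstab : ∀ m ∈ normalizer ((P : Subgroup X) : Set X), m * z * m⁻¹ = z →
      m ∈ (P : Subgroup X) := by
    intro m hm hmz
    by_contra hmP
    have hmC : m ∈ centralizer ({z} : Set X) :=
      mem_centralizer_singleton_iff.2 (mul_inv_eq_iff_eq_mul.1 hmz)
    set A := normalizer ((P : Subgroup X) : Set X) ⊓ centralizer ({z} : Set X) with hA
    have hPA : (P : Subgroup X) ≤ A := le_inf Subgroup.le_normalizer hPz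
    have hAC : A = centralizer ({z} : Set X) := by
      refine Subgroup.eq_of_le_of_card_ge inf_le_right ?_
      obtain ⟨j, hj⟩ := h4 ▸ card_dvd_of_le hPA
      have hjp : j ∣ p := by
        have := card_dvd_of_le (inf_le_right : A ≤ centralizer ({z} : Set X))
        rw [hj, hX.card_cent hp hz hy hyz hzP hPz] at this
        exact (Nat.mul_dvd_mul_iff_left (by norm_num)).1 this
      rcases (Nat.dvd_prime Fact.out).1 hjp with rfl | rfl
      · exact absurd ((Subgroup.eq_of_le_of_card_ge hPA (by rw [hj, h4])).symm ▸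
          (⟨hm, hmC⟩ : m ∈ A) : m ∈ (P : Subgroup X)) hmP
      · rw [hj, hX.card_cent hp hz hy hyz hzP hPz]
    have hyA : y ∈ A := hAC.symm ▸ hyC
    have hyN : y ∈ normalizer ((P : Subgroup X) : Set X) := hyA.1
    have hy1 : y ≠ 1 := fun e => by rw [e, orderOf_one] at hy; exact (Fact.out : p.Prime).one_lt.ne hy
    have hNy := hX.normalizer_odd hp hz (isPGroup_zpowers (k := 1) (by rw [hy, pow_one]))
      (zpowers_ne_bot' hy1) (zpowers_le.2 hyC)
    set c := y * (n * z * n⁻¹) * y⁻¹ * (n * z * n⁻¹)⁻¹ with hc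
    have hcP : c ∈ (P : Subgroup X) := mul_mem (conj_mem_of_normalizer hyN hgP) (inv_mem hgP)
    have hcY : c ∈ zpowers y := by
      have : c = y * ((n * z * n⁻¹) * y⁻¹ * (n * z * n⁻¹)⁻¹) := by rw [hc]; group
      rw [this]
      exact mul_mem (mem_zpowers y)
        (conj_mem_of_normalizer (hNy.symm ▸ hPz hgP) (inv_mem (mem_zpowers y)))
    have hc1 : c = 1 := by
      refine orderOf_eq_one_iff.1 (Nat.eq_one_of_dvd_coprimes (k := orderOf c) ?_
        (Subgroup.orderOf_dvd_natCard _ hcY) (Subgroup.orderOf_dvd_natCard _ hcP))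
      rw [Nat.card_zpowers, hy, h4]
      exact ((Nat.coprime_primes Fact.out Nat.prime_two).2 hp).pow_right 2
    exact hne (hX.only_z hp hz hy hyz hzP hPz ho hgP
      (mul_inv_eq_iff_eq_mul.1 (mul_inv_eq_one.1 hc1)))
  refine { eq_bot_or_eq_top_of_normal := fun N hN => or_iff_not_imp_left.2 fun hN1 => ?_ }
  haveI := hN
  -- `P ≤ N`
  obtain ⟨t, ht⟩ := exists_prime_orderOf_dvd_card' (G := N) 2 (hX.two_dvd_of_normal hN hN1)
  obtain ⟨R, hR⟩ := (isPGroup_zpowers (p := 2) (k := 1) (x := (t : X))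
    (by rw [Subgroup.orderOf_coe, ht, pow_one])).exists_le_sylow
  obtain ⟨u, hu⟩ := MulAction.exists_smul_eq X R P
  have hwP : u * (t : X) * u⁻¹ ∈ (P : Subgroup X) := by
    rw [← hu]
    exact Subgroup.smul_mem_pointwise_smul (t : X) (MulAut.conj u) _ (hR (mem_zpowers _))
  have hwN : u * (t : X) * u⁻¹ ∈ N := hN.conj_mem _ t.2 u
  have hwo : orderOf (u * (t : X) * u⁻¹) = 2 := by rw [orderOf_conj_eq, Subgroup.orderOf_coe, ht]
  have hzN : z ∈ N := by
    rcases hX.invol_mem hp hz hy hyz hzP hPz ho hgP hne hwo hwP with e | e | e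
    · exact e ▸ hwN
    · have := hN.conj_mem _ (e ▸ hwN) n⁻¹
      rwa [show n⁻¹ * (n * z * n⁻¹) * n⁻¹⁻¹ = z by group] at this
    · exact h2 ▸ hN.conj_mem _ (e ▸ hwN) n
  have hPN : (P : Subgroup X) ≤ N := by
    intro a ha
    rcases eq_or_ne a 1 with rfl | ha1
    · exact one_mem _
    rcases hX.invol_mem hp hz hy hyz hzP hPz ho hgP hne
      (orderOf_eq_prime (by rw [pow_two]; exact hX.sq_mem_P hp hz hy hyz hzP hPz ha) ha1) ha with
      e | e | e <;> subst e
    · exact hzN
    · exact hN.conj_mem _ hzN n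
    · exact mul_mem hzN (hN.conj_mem _ hzN n)
  -- `n ∈ N`
  have hnN : n ∈ N := by
    by_contra hnN
    have hn3 : n * n * n ∈ N := by
      refine hPN (hstab _ (mul_mem (mul_mem hn hn) hn) ?_)
      calc n * n * n * z * (n * n * n)⁻¹ = n * (n * (n * z * n⁻¹) * n⁻¹) * n⁻¹ := by group
        _ = z := by rw [h1, h2]
    -- elements of `N ⊓ N(P)` lie in `P`
    have hNP : ∀ m ∈ normalizer ((P : Subgroup X) : Set X), m ∈ N → m ∈ (P : Subgroup X) := by
      intro m hm hmN
      have ho' : orderOf (m * z * m⁻¹) = 2 := by rw [orderOf_conj_eq, hz]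
      rcases hX.invol_mem hp hz hy hyz hzP hPz ho hgP hne ho' (conj_mem_of_normalizer hm hzP) with
        e | e | e
      · exact hstab m hm e
      · exfalso
        have hk : n⁻¹ * m ∈ (P : Subgroup X) := hstab _ (mul_mem (inv_mem hn) hm) (by
          calc n⁻¹ * m * z * (n⁻¹ * m)⁻¹ = n⁻¹ * (m * z * m⁻¹) * n := by group
            _ = z := by rw [e]; group)
        refine hnN ?_
        have := mul_mem hmN (inv_mem (hPN hk))
        rwa [show m * (n⁻¹ * m)⁻¹ = n by group] at this
      · exfalso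
        have hk : n * m ∈ (P : Subgroup X) := hstab _ (mul_mem hn hm) (by
          calc n * m * z * (n * m)⁻¹ = n * (m * z * m⁻¹) * n⁻¹ := by group
            _ = z := by rw [e, h2])
        refine hnN ?_
        have := mul_mem (hPN hk) (inv_mem hmN)
        rwa [show n * m * m⁻¹ = n by group] at this
    set Q := P.subtype hPN
    have hQ : normalizer (((Q : Subgroup N)) : Set N) ≤ centralizer (((Q : Subgroup N)) : Set N) := by
      intro m hm
      have hmX : (m : X) ∈ normalizer ((P : Subgroup X) : Set X) :=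
        mem_normalizer_of_conj_le fun a ha => by
          have := conj_mem_of_normalizer hm (show (⟨a, hPN ha⟩ : N) ∈ (Q : Subgroup N) from by
            rw [Sylow.coe_subtype]; exact ha)
          rw [Sylow.coe_subtype] at this
          exact this
      refine Subgroup.mem_centralizer_iff.2 fun a ha => Subtype.ext ?_
      rw [SetLike.mem_coe, Sylow.coe_subtype] at ha
      exact hcomm _ ha _ (hNP m hmX m.2)
    have hK := MonoidHom.ker_transferSylow_isComplement' Q hQ
    set K := (MonoidHom.transferSylow Q hQ).ker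
    have hKodd : (Nat.card K).Coprime 2 := by
      have hci : K.index = 4 := by
        rw [(Subgroup.IsComplement'.symm hK).index_eq_card, Sylow.coe_subtype,
          Nat.card_congr (Subgroup.subgroupOfEquivOfLe hPN).toEquiv, h4]
      rw [Nat.coprime_two_right, ← Nat.not_even_iff_odd, even_iff_two_dvd]
      intro hd
      have h8 : 2 ^ 3 ∣ Nat.card X := by
        refine dvd_trans ?_ (card_subgroup_dvd_card N)
        rw [← K.card_mul_index, hci]
        obtain ⟨c, hc⟩ := hd
        exact ⟨c, by rw [hc]; ring⟩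
      have h4' := Sylow.card_eq_multiplicity P
      rw [h4] at h4'
      have h3 := (Nat.prime_two.pow_dvd_iff_le_factorization Nat.card_pos.ne').1 h8
      have := Nat.pow_le_pow_right two_pos h3
      omega
    haveI := H1.pPrimeCore_normal' 2 N
    haveI := H1.pPrimeCore_characteristic 2 N
    have hO := hX.odd_core _ (H1.map_subtype_normal_of_characteristic N (Cfsg.pPrimeCore 2 N)) (by
      rw [Subgroup.card_map_of_injective N.subtype_injective]
      exact Nat.coprime_two_right.1 (H1.card_pPrimeCore_coprime 2 N))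
    rw [Subgroup.map_eq_bot_iff_of_injective _ N.subtype_injective] at hO
    have hKb : K = ⊥ := le_bot_iff.1 (hO ▸ H1.le_pPrimeCore hKodd)
    have hQtop : (Q : Subgroup N) = ⊤ := by
      have := Subgroup.IsComplement'.sup_eq_top hK
      rwa [hKb, bot_sup_eq] at this
    have hPeq : (P : Subgroup X) = N := le_antisymm hPN fun a ha => by
      have : (⟨a, ha⟩ : N) ∈ (Q : Subgroup N) := hQtop ▸ Subgroup.mem_top _
      rwa [Sylow.coe_subtype] at this
    exact hN1 (hX.eq_bot_of_subnormal_pgroup hN.isSubnormal (hPeq ▸ P.isPGroup'))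
  have hNN : normalizer ((P : Subgroup X) : Set X) ≤ N := by
    intro m hm
    have ho' : orderOf (m * z * m⁻¹) = 2 := by rw [orderOf_conj_eq, hz]
    rcases hX.invol_mem hp hz hy hyz hzP hPz ho hgP hne ho' (conj_mem_of_normalizer hm hzP) with
      e | e | e
    · exact hPN (hstab m hm e)
    · have hk : n⁻¹ * m ∈ (P : Subgroup X) := hstab _ (mul_mem (inv_mem hn) hm) (by
        calc n⁻¹ * m * z * (n⁻¹ * m)⁻¹ = n⁻¹ * (m * z * m⁻¹) * n := by group
          _ = z := by rw [e]; group)
      have := mul_mem hnN (hPN hk)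
      rwa [mul_inv_cancel_left] at this
    · have hk : n * m ∈ (P : Subgroup X) := hstab _ (mul_mem hn hm) (by
        calc n * m * z * (n * m)⁻¹ = n * (m * z * m⁻¹) * n⁻¹ := by group
          _ = z := by rw [e, h2])
      have := mul_mem (inv_mem hnN) (hPN hk)
      rwa [inv_mul_cancel_left] at this
  have hF := Sylow.normalizer_sup_eq_top (P.subtype hPN)
  rw [Sylow.coe_subtype, Subgroup.map_subgroupOf_eq_of_le hPN] at hF
  rw [← hF]
  exact (sup_eq_right.2 hNN).symm

/-- The Brauer–Suzuki–Wall conclusion. -/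
theorem exists_psl : ∃ (F : Type) (_ : Field F) (_ : Fintype F), Odd (Fintype.card F) ∧
    Nonempty (X ≃* Matrix.ProjectiveSpecialLinearGroup (Fin 2) F) := by
  haveI : Fact (Nat.Prime 2) := ⟨Nat.prime_two⟩
  haveI := hX.isSimple hp hz hy hyz hzP hPz
  have hy1 : y ≠ 1 := fun e => by rw [e, orderOf_one] at hy; exact (Fact.out : p.Prime).one_lt.ne hy
  have hyC : y ∈ centralizer ({z} : Set X) := mem_centralizer_singleton_iff.2 hyz
  have h4 := hX.card_P hp hz hy hyz hzP hPz
  have hN := hX.normalizer_odd hp hz (isPGroup_zpowers (k := 1) (by rw [hy, pow_one]))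
    (zpowers_ne_bot' hy1) (zpowers_le.2 hyC)
  have hK : IsKleinFour (P : Subgroup X) := by
    haveI : Nontrivial (P : Subgroup X) := Finite.one_lt_card_iff_nontrivial.1 (by omega)
    refine ⟨h4, (Monoid.exponent_eq_prime_iff Nat.prime_two).2 fun a ha => ?_⟩
    refine orderOf_eq_prime (Subtype.ext ?_) ha
    rw [pow_two]
    exact hX.sq_mem_P hp hz hy hyz hzP hPz a.2
  set C := centralizer ({z} : Set X) with hC
  have hO : zpowers y = (Cfsg.oddCore C).map C.subtype := by
    haveI : ((zpowers y).subgroupOf C).Normal := normal_subgroupOf_of_le_normalizer hN.ge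
    have hco : (Nat.card ((zpowers y).subgroupOf C)).Coprime 2 := by
      rw [Nat.card_congr (Subgroup.subgroupOfEquivOfLe (zpowers_le.2 hyC)).toEquiv, Nat.card_zpowers,
        hy]
      exact (Nat.coprime_primes Fact.out Nat.prime_two).2 hp
    refine Subgroup.eq_of_le_of_card_ge ?_ ?_
    · rw [← Subgroup.map_subgroupOf_eq_of_le (zpowers_le.2 hyC)]
      exact Subgroup.map_mono (H1.le_pPrimeCore hco)
    · rw [Subgroup.card_map_of_injective C.subtype_injective, Nat.card_zpowers, hy]
      have hd : Nat.card (Cfsg.oddCore C) ∣ 4 * p :=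
        hX.card_cent hp hz hy hyz hzP hPz ▸ card_subgroup_dvd_card _
      exact Nat.le_of_dvd (Fact.out : p.Prime).pos
        (((H1.card_pPrimeCore_coprime 2 C).pow_right 2).dvd_of_dvd_mul_left hd)
  have hcentY : ∀ a ∈ centralizer ((zpowers y : Subgroup X) : Set X), y * a = a * y := fun a ha =>
    Subgroup.mem_centralizer_iff.1 ha y (mem_zpowers y)
  have hinf : (P : Subgroup X) ⊓ centralizer ((zpowers y : Subgroup X) : Set X) = zpowers z := by
    refine le_antisymm ?_ (zpowers_le.2 ⟨hzP, Subgroup.mem_centralizer_iff.2 fun a ha => ?_⟩)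
    · rintro a ⟨haP, haC⟩
      rcases eq_or_ne a 1 with rfl | ha1
      · exact one_mem _
      · rw [hX.only_z hp hz hy hyz hzP hPz
          (orderOf_eq_prime (by rw [pow_two]; exact hX.sq_mem_P hp hz hy hyz hzP hPz haP) ha1) haP
          (hcentY a haC)]
        exact mem_zpowers z
    · obtain ⟨i, rfl⟩ := mem_zpowers_iff.1 ha
      exact (Commute.zpow_left (hyz : Commute y z) i).eq
  refine Cfsg.Agent.S0508.result P 2 le_rfl IsKleinFour.nonempty_mulEquiv z hz hzP
    (fun s hs => mem_centralizer_singleton_iff.1 (hPz hs)) (zpowers y) hO ?_ ?_ ?_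
  · intro _
    rw [hinf]
    refine ⟨inferInstance, ?_⟩
    have hle : zpowers z ≤ (P : Subgroup X) := zpowers_le.2 hzP
    have := ((zpowers z).subgroupOf (P : Subgroup X)).card_mul_index
    rw [Nat.card_congr (Subgroup.subgroupOfEquivOfLe hle).toEquiv, Nat.card_zpowers, hz, h4] at this
    show ((zpowers z).subgroupOf (P : Subgroup X)).index = 2
    omega
  · intro s hs hsC a ha
    rcases commute_or_inverts hy (hX.sq_mem_P hp hz hy hyz hzP hPz hs)
      (conj_mem_of_normalizer (hN.symm ▸ hPz hs) (mem_zpowers y)) with h | h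
    · refine absurd (Subgroup.mem_centralizer_iff.2 fun b hb => ?_) hsC
      obtain ⟨i, rfl⟩ := mem_zpowers_iff.1 hb
      exact ((show Commute y s from h.symm).zpow_left i).eq
    · obtain ⟨i, rfl⟩ := mem_zpowers_iff.1 ha
      rw [← conj_zpow, h, inv_zpow]
  · intro Y hY hY1
    obtain ⟨a, haY, ha1⟩ := (Subgroup.ne_bot_iff_exists_ne_one).1 hY1 |> fun ⟨a, h⟩ =>
      (⟨(a : X), a.2, fun e => h (Subtype.ext e)⟩ : ∃ a : X, a ∈ Y ∧ a ≠ 1)
    have : Y = zpowers y := le_antisymm hY
      (zpowers_le.2 ((zpowers_le.2 haY) (mem_zpowers_of_prime hy (hY haY) ha1)))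
    rw [this, hN]

end

end Core

end H29.MaxNorm
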