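import Cfsg.Agent.H29.MaxNorm.Basic
import Cfsg.Agent.H39.InvolTor
import Cfsg.Agent.H39.Platonic
import Cfsg.Agent.H37.SmallIsoBase

/-!
`PSL₂(q)`, `q` odd, with maximal normalizers and involution centralizers of order `4p`: `q = 13`.
-/

set_option autoImplicit false
set_option linter.style.haveILetI false
set_option linter.unusedSectionVars false

namespace H29.MaxNorm

open Subgroup Matrix
open scoped MatrixGroups

theorem Core.congr {X Y : Type*} [Group X] [Group Y] (e : X ≃* Y) (hX : Core X) : Core Y := by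
  refine ⟨fun H hH hb => ?_, fun N hN hs => ?_, fun h => ?_⟩
  · have hb' : IsBiprimary (H.map e.symm.toMonoidHom) := by
      obtain ⟨p, q, hp, hq, hpq⟩ := hb
      exact ⟨p, q, hp, hq, fun r hr hd => hpq r hr
        (by rwa [Subgroup.card_map_of_injective e.symm.injective] at hd)⟩
    have h1 := hX.coatom _ (fun he => hH ((Subgroup.map_eq_bot_iff_of_injective _ e.symm.injective).1 he))
      hb'
    rw [← Subgroup.map_equiv_normalizer_eq] at h1
    exact ((MulEquiv.mapSubgroup e.symm).isCoatom_iff (normalizer (H : Set Y))).1 h1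
  · haveI := hs
    have h1 := hX.rad _ (hN.map e.symm.toMonoidHom e.symm.surjective)
      (Group.isSolvable_of_surjective (MonoidHom.subgroupMap_surjective e.symm.toMonoidHom N))
    exact (Subgroup.map_eq_bot_iff_of_injective _ e.symm.injective).1 h1
  · haveI := h
    exact hX.nsol (Group.isSolvable_of_surjective (f := e.symm.toMonoidHom) e.symm.surjective)

variable {F : Type*} [Field F] [Fintype F]

local notation "G2" => Matrix.ProjectiveSpecialLinearGroup (Fin 2) F

theorem transl_pow (k : ℕ) : H39.transl (1 : F) ^ k = H39.transl (k : F) := by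
  induction k with
  | zero => simp [H39.transl_zero]
  | succ k ih => rw [pow_succ, ih, H39.transl_mul, Nat.cast_succ]

theorem borelP_ne_top : (H39.borelP : Subgroup G2) ≠ ⊤ := by
  intro h
  let g : SL(2, F) := ⟨!![0, -1; 1, 0], by simp [Matrix.det_fin_two]⟩
  have h1 : g 1 0 = 0 := H39.proj_mem_borelP.1 (h ▸ Subgroup.mem_top _)
  simp [g] at h1

/-- Maximality of the normaliser of a unipotent cyclic group forces a prime field. -/
theorem card_eq_char (hG : Core G2) (l : ℕ) [Fact l.Prime] [CharP F l] : Fintype.card F = l := by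
  classical
  have hl := (Fact.out : l.Prime)
  set u : G2 := H39.transl (1 : F) with hu
  have hul : u ^ l = 1 := by rw [hu, transl_pow, CharP.cast_eq_zero, H39.transl_zero]
  have hu1 : u ≠ 1 := H39.transl_ne_one one_ne_zero
  have hmem : ∀ x ∈ zpowers u, ∃ k : ℕ, x = H39.transl (k : F) := by
    intro x hx
    rw [mem_zpowers_iff_mem_range_orderOf, Finset.mem_image] at hx
    obtain ⟨k, -, rfl⟩ := hx
    exact ⟨k, transl_pow k⟩
  have hle : normalizer ((zpowers u : Subgroup G2) : Set G2) ≤ H39.borelP := by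
    intro g hg
    obtain ⟨k, hk⟩ := hmem _ (conj_mem_of_normalizer hg (mem_zpowers u))
    exact H39.mem_borelP_of_conj one_ne_zero hk
  have hN : normalizer ((zpowers u : Subgroup G2) : Set G2) = H39.borelP := by
    have hco := hG.coatom (zpowers u) (by rw [Ne, zpowers_eq_bot]; exact hu1)
      (isBiprimary_of_isPGroup hl (IsPGroup.of_card (p := l) (n := 1) (by
        rw [Nat.card_zpowers, pow_one, orderOf_eq_prime hul hu1])))
    rcases eq_or_lt_of_le hle with e | e
    · exact e
    · exact absurd (hco.2 _ e) borelP_ne_top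
  have key : ∀ a : Fˣ, a ^ (2 * (l - 1)) = 1 := by
    intro a
    let d : SL(2, F) := ⟨!![(a : F), 0; 0, (a : F)⁻¹], by simp [Matrix.det_fin_two]⟩
    have hd : H39.proj d ∈ H39.borelP := H39.proj_mem_borelP.2 (by simp [d])
    have hm : H39.mult (H39.proj d) = (a : F) ^ 2 := by rw [H39.mult_proj]; simp [d]
    obtain ⟨k, hk⟩ := hmem _ (conj_mem_of_normalizer (hN.symm ▸ hd) (mem_zpowers u))
    rw [hu, H39.conj_transl hd, mul_one, hm] at hk
    have hk' : (a : F) ^ 2 = (k : F) := H39.transl_injective hk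
    have hfr : ((a : F) ^ 2) ^ l = (a : F) ^ 2 := by
      rw [hk', ← frobenius_def, map_natCast]
    ext
    rw [Units.val_pow_eq_pow_val, Units.val_one, pow_mul]
    refine mul_right_cancel₀ (pow_ne_zero 2 a.ne_zero) ?_
    rw [← pow_succ, Nat.sub_add_cancel hl.one_le, hfr, one_mul]
  obtain ⟨g, hg⟩ := IsCyclic.exists_generator (α := Fˣ)
  have h1 := orderOf_dvd_of_pow_eq_one (key g)
  rw [orderOf_eq_card_of_forall_mem_zpowers hg, Nat.card_units, Nat.card_eq_fintype_card] at h1
  have h2 := Nat.le_of_dvd (by have := hl.two_le; omega) h1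
  obtain ⟨m, -, hm⟩ := FiniteField.card F l
  by_contra hne
  have hm2 : 2 ≤ (m : ℕ) := by
    rcases lt_or_eq_of_le (show 1 ≤ (m : ℕ) from m.pos) with h | h
    · omega
    · exact absurd (by rw [hm, ← h, pow_one]) hne
  have h3 : l * l ≤ Fintype.card F := by
    rw [hm, ← pow_two]; exact Nat.pow_le_pow_right hl.pos hm2
  have h4 : 2 * l ≤ l * l := Nat.mul_le_mul_right l hl.two_le
  have := hl.two_le
  omega

/-- An odd torus of order `n` gives a prime `n`. -/
theorem prime_of_odd_tor (hG : Core G2) (l : ℕ) [Fact l.Prime] [CharP F l] {y : G2}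
    (hy : y ^ l ≠ 1) (hodd : Odd (Nat.card (H39.tor y))) (h1 : Nat.card (H39.tor y) ≠ 1) :
    (Nat.card (H39.tor y)).Prime := by
  haveI : Fact (Nat.Prime 2) := ⟨Nat.prime_two⟩
  set n := Nat.card (H39.tor y) with hn
  haveI := H39.tor_isCyclic l hy
  obtain ⟨⟨c, hcT⟩, hcg⟩ := IsCyclic.exists_generator (α := H39.tor y)
  have hc : orderOf c = n := by
    rw [hn, ← orderOf_eq_card_of_forall_mem_zpowers hcg]
    exact Subgroup.orderOf_coe ⟨c, hcT⟩
  obtain ⟨r, hr, hrn⟩ := Nat.exists_prime_and_dvd h1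
  haveI := Fact.mk hr
  have hr2 : r ≠ 2 := fun e => Nat.not_even_iff_odd.2 hodd (even_iff_two_dvd.2 (e ▸ hrn))
  set y' := c ^ (n / r) with hy'
  have hy'o : orderOf y' = r := by
    rw [hy', orderOf_pow, hc, Nat.gcd_eq_right (Nat.div_dvd_of_dvd hrn),
      Nat.div_div_self hrn hodd.pos.ne']
  obtain ⟨s, hs, hsT⟩ := H39.exists_outside l hy
  obtain ⟨hs2, -, hinv⟩ := H39.normalizer_outside l hy hs hsT
  have hss : s * s = 1 := by rw [← pow_two]; exact hs2
  have hsi : s⁻¹ = s := inv_eq_of_mul_eq_one_right hss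
  have hR : IsPGroup r (zpowers y') := IsPGroup.of_card (n := 1) (by rw [Nat.card_zpowers, hy'o, pow_one])
  have hR1 : zpowers y' ≠ ⊥ := by
    rw [Ne, zpowers_eq_bot]
    intro e
    rw [e, orderOf_one] at hy'o
    exact hr.one_lt.ne hy'o
  have hy'T : y' ∈ H39.tor y := pow_mem hcT _
  have hK : IsPGroup 2 (zpowers s) := by
    obtain ⟨j, -, hj⟩ := (Nat.dvd_prime_pow Nat.prime_two).1
      (orderOf_dvd_of_pow_eq_one (show s ^ 2 ^ 1 = 1 by rw [pow_one, hs2]))
    exact IsPGroup.of_card (by rw [Nat.card_zpowers, hj])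
  have hKR : zpowers s ≤ normalizer ((zpowers y' : Subgroup G2) : Set G2) := by
    refine zpowers_le.2 (mem_normalizer_of_conj_le fun x hx => ?_)
    rw [hinv x (zpowers_le.2 hy'T hx)]
    exact inv_mem hx
  have hcN : c ∈ normalizer ((zpowers y' : Subgroup G2) : Set G2) := by
    refine mem_normalizer_of_conj_le fun x hx => ?_
    obtain ⟨i, rfl⟩ := mem_zpowers_iff.1 hx
    rw [((Commute.pow_right (Commute.refl c) (n / r)).zpow_right i).eq, mul_inv_cancel_right]
    exact hx
  have hcs : c * s * c⁻¹ = c * c * s := by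
    calc c * s * c⁻¹ = c * (s * c⁻¹ * s⁻¹) * s := by group
      _ = c * c * s := by rw [hinv _ (inv_mem hcT), inv_inv]
  have hm := hG.conj_mem_sup hr2 hR hR1 hK hKR hcN (mem_zpowers s)
  rw [hcs] at hm
  have hcc : c * c ∈ zpowers y' ⊔ zpowers s := by
    have := mul_mem hm (inv_mem (Subgroup.mem_sup_right (mem_zpowers s)))
    rwa [mul_inv_cancel_right] at this
  rw [← SetLike.mem_coe, Subgroup.coe_mul_of_right_le_normalizer_left _ _ hKR] at hcc
  obtain ⟨u, hu, v, hv, huv⟩ := Set.mem_mul.1 hcc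
  have hvT : v ∈ H39.tor y := by
    rw [show v = u⁻¹ * (c * c) by rw [← huv, inv_mul_cancel_left]]
    exact mul_mem (inv_mem (zpowers_le.2 hy'T hu)) (mul_mem hcT hcT)
  have hv1 : v = 1 := by
    obtain ⟨i, rfl⟩ := mem_zpowers_iff.1 hv
    have h2z : s ^ (2 : ℤ) = 1 := by rw [zpow_two, hss]
    rcases Int.even_or_odd i with ⟨j, rfl⟩ | ⟨j, rfl⟩
    · rw [← two_mul, _root_.zpow_mul, h2z, _root_.one_zpow]
    · rw [_root_.zpow_add, _root_.zpow_mul, h2z, _root_.one_zpow, one_mul, zpow_one] at hvT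
      exact absurd hvT hsT
  have hd : n ∣ r := by
    rw [hv1, mul_one] at huv
    rw [huv] at hu
    have hd' := orderOf_dvd_of_mem_zpowers hu
    have hco : (orderOf c).Coprime 2 := by rw [hc]; exact Nat.coprime_two_right.2 hodd
    rw [hy'o, ← pow_two, hco.orderOf_pow, hc] at hd'
    exact hd'
  exact (Nat.dvd_antisymm hd hrn).symm ▸ hr

open Equiv in
theorem alt5_five_inverted : ∃ σ τ : alternatingGroup (Fin 5),
    σ ^ 5 = 1 ∧ σ ≠ 1 ∧ τ * τ = 1 ∧ τ ≠ 1 ∧ τ * σ * τ⁻¹ = σ⁻¹ :=
  ⟨⟨finRotate 5, Perm.mem_alternatingGroup.2 (by decide)⟩,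
    ⟨swap 1 4 * swap 2 3, Perm.mem_alternatingGroup.2 (by decide)⟩, by decide⟩

/-- The case of eleven elements is impossible. -/
theorem card_ne_eleven (hG : Core G2) : Fintype.card F ≠ 11 := by
  intro hq
  haveI : Fact (Nat.Prime 11) := ⟨by norm_num⟩
  haveI : CharP F 11 := charP_of_card_eq_prime hq
  haveI : Fact (Nat.Prime 5) := ⟨by norm_num⟩
  haveI : Fact (Nat.Prime 2) := ⟨Nat.prime_two⟩
  have hodd : Odd (Fintype.card F) := by rw [hq]; decide
  have hcard : Nat.card G2 = 660 := by rw [H39.card_G2_eq, hq]; rfl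
  obtain ⟨H, ⟨e⟩⟩ := H39.exists_alt5_odd 11 hodd (by norm_num) (by rw [hcard]; norm_num)
  have hH : Nat.card H = 60 := by
    rw [Nat.card_congr e.toEquiv, nat_card_alternatingGroup, Nat.card_fin]; rfl
  obtain ⟨σ, τ, h5, hσ, h2, hτ, hinv⟩ := alt5_five_inverted
  let f : alternatingGroup (Fin 5) →* G2 := H.subtype.comp e.symm.toMonoidHom
  have hf : Function.Injective f := H.subtype_injective.comp e.symm.injective
  have hfH : ∀ a, f a ∈ H := fun a => (e.symm a).2
  have hyo : orderOf (f σ) = 5 :=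
    orderOf_eq_prime (by rw [← map_pow, h5, map_one]) fun h => hσ (hf (h.trans (map_one f).symm))
  have hso : orderOf (f τ) = 2 :=
    orderOf_eq_prime (by rw [pow_two, ← map_mul, h2, map_one]) fun h => hτ (hf (h.trans (map_one f).symm))
  have hy : f σ ^ 11 ≠ 1 := fun h => by
    have := orderOf_dvd_of_pow_eq_one h
    rw [hyo] at this
    norm_num at this
  have hTy := Subgroup.orderOf_dvd_natCard _ (H39.self_mem_tor (f σ))
  rw [hyo] at hTy
  obtain ⟨hT, hNT, -⟩ := H39.tor_trichotomy 11 hy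
  rw [H39.gcd_eq_two hodd, hq] at hT
  have hT5 : Nat.card (H39.tor (f σ)) = 5 := by
    rcases hT with h | h
    · rw [h] at hTy; norm_num at hTy
    · rw [h]
  have hZT : zpowers (f σ) = H39.tor (f σ) :=
    Subgroup.eq_of_le_of_card_ge (zpowers_le.2 (H39.self_mem_tor _))
      (by rw [hT5, Nat.card_zpowers, hyo])
  rw [hT5, ← hZT] at hNT
  set N := normalizer ((zpowers (f σ) : Subgroup G2) : Set G2)
  have hτN : f τ ∈ N := by
    refine mem_normalizer_of_conj_le fun x hx => ?_
    obtain ⟨i, rfl⟩ := mem_zpowers_iff.1 hx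
    rw [← conj_zpow, ← map_inv, ← map_mul, ← map_mul, hinv, map_inv, _root_.inv_zpow]
    exact inv_mem (zpow_mem (mem_zpowers _) i)
  have hJ : N ⊓ H = N := by
    refine Subgroup.eq_of_le_of_card_ge inf_le_left ?_
    rw [hNT]
    refine Nat.le_of_dvd Nat.card_pos (Nat.Coprime.mul_dvd_of_dvd_of_dvd (by norm_num) ?_ ?_)
    · have := Subgroup.orderOf_dvd_natCard (N ⊓ H) (⟨hτN, hfH τ⟩ : f τ ∈ N ⊓ H)
      rwa [hso] at this
    · have := Subgroup.orderOf_dvd_natCard (N ⊓ H)
        (⟨Subgroup.le_normalizer (mem_zpowers _), hfH σ⟩ : f σ ∈ N ⊓ H)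
      rwa [hyo] at this
  have hco := hG.coatom (zpowers (f σ)) (by
      rw [Ne, zpowers_eq_bot]
      intro h
      rw [h, orderOf_one] at hyo
      omega)
    (isBiprimary_of_isPGroup (Fact.out : Nat.Prime 5)
      (IsPGroup.of_card (n := 1) (by rw [Nat.card_zpowers, hyo, pow_one])))
  rcases eq_or_lt_of_le (inf_eq_left.1 hJ) with h | h
  · rw [← h, hNT] at hH; omega
  · rw [hco.2 _ h, Subgroup.card_top, hcard] at hH; omega

/-- `PSL₂(q)` with the centraliser of order `4p` : `q = 13`. -/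
theorem card_eq_thirteen (hG : Core G2) (hodd : Odd (Fintype.card F)) {p : ℕ} (hp : p.Prime)
    (hp2 : p ≠ 2) {t : G2} (ht : orderOf t = 2)
    (hC : Nat.card (centralizer ({t} : Set G2)) = 4 * p) : Fintype.card F = 13 := by
  obtain ⟨l, hl⟩ := CharP.exists F
  haveI : Fact l.Prime := ⟨CharP.char_is_prime F l⟩
  have hql := card_eq_char hG l
  have hqp : (Fintype.card F).Prime := hql ▸ Fact.out
  rw [H39.card_centralizer_invol l hodd ht, H39.evenHalf] at hC
  have hp3 : 3 ≤ p := by have := hp.two_le; omega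
  have hpodd : Odd p := hp.odd_of_ne_two hp2
  obtain ⟨j, hj⟩ := hpodd
  have hd := H39.gcd_eq_two hodd
  have hmod : Fintype.card F % 2 = 1 := Nat.odd_iff.1 hodd
  by_cases h4 : Fintype.card F % 4 = 1
  · rw [if_pos h4] at hC
    obtain ⟨y, hy, hc⟩ := H39.exists_tor_plus (F := F) l
    rw [hd] at hc
    have hn : Nat.card (H39.tor y) = 2 * p + 1 := by omega
    have hpr := prime_of_odd_tor hG l hy (by rw [hn]; exact ⟨p, rfl⟩) (by omega)
    rw [hn] at hpr
    have hq : Fintype.card F = 4 * p + 1 := by omega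
    rw [hq] at hqp
    have h3 : p % 3 = 0 := by
      by_contra hne
      rcases (show p % 3 = 1 ∨ p % 3 = 2 by omega) with e | e
      · have := (Nat.prime_dvd_prime_iff_eq Nat.prime_three hpr).1 (by omega)
        omega
      · have := (Nat.prime_dvd_prime_iff_eq Nat.prime_three hqp).1 (by omega)
        omega
    have := (Nat.prime_dvd_prime_iff_eq Nat.prime_three hp).1 (by omega)
    omega
  · rw [if_neg h4] at hC
    have hq : Fintype.card F + 1 = 4 * p := by omega
    obtain ⟨y, hy, hc⟩ := H39.exists_tor_minus (F := F) l (by rw [hd]; omega)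
    rw [hd] at hc
    have hn : Nat.card (H39.tor y) + 1 = 2 * p := by omega
    have hpr := prime_of_odd_tor hG l hy (Nat.odd_iff.2 (by omega)) (by omega)
    exfalso
    have h3 : p % 3 = 0 := by
      by_contra hne
      rcases (show p % 3 = 1 ∨ p % 3 = 2 by omega) with e | e
      · have := (Nat.prime_dvd_prime_iff_eq Nat.prime_three hqp).1 (by omega)
        omega
      · have := (Nat.prime_dvd_prime_iff_eq Nat.prime_three hpr).1 (by omega)
        omega
    have := (Nat.prime_dvd_prime_iff_eq Nat.prime_three hp).1 (by omega)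
    exact card_ne_eleven hG (by omega)

theorem nonempty_psl_thirteen (h : Fintype.card F = 13) :
    Nonempty (G2 ≃* Matrix.ProjectiveSpecialLinearGroup (Fin 2) (ZMod 13)) :=
  ⟨H37.pslCongr (ZMod.ringEquivOfPrime F (p := 13) (by norm_num) h).symm⟩

end H29.MaxNorm
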