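import Cfsg.Agent.H29.MaxNorm.CIT
import Cfsg.Agent.H29.MaxNorm.Psl
import Cfsg.Agent.H39.Dickson
import Cfsg.Agent.H22.CN.Structure
import Cfsg.Agent.H63.SzBorel
import Cfsg.Agent.H57.SzBinary
import Cfsg.Agent.H57.SzForm

/-!
No group with maximal normalizers and trivial soluble radical has all involution centralizers
`2`-groups.
-/

set_option autoImplicit false
set_option linter.style.haveILetI false
set_option linter.unusedSectionVars false

namespace H29.MaxNorm

open Subgroup Matrix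
open scoped MatrixGroups

universe u

theorem cit_congr {X Y : Type*} [Group X] [Group Y] (e : X ≃* Y)
    (h : ∀ t : X, orderOf t = 2 → IsPGroup 2 (centralizer ({t} : Set X))) :
    ∀ t : Y, orderOf t = 2 → IsPGroup 2 (centralizer ({t} : Set Y)) := by
  rintro t ht ⟨g, hg⟩
  have hg' : e.symm g ∈ centralizer ({e.symm t} : Set X) := mem_centralizer_singleton_iff.2 (by
    rw [← map_mul, mem_centralizer_singleton_iff.1 hg, map_mul])
  obtain ⟨k, hk⟩ := h (e.symm t) (by rw [MulEquiv.orderOf_eq, ht]) ⟨_, hg'⟩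
  refine ⟨k, Subtype.ext (e.symm.injective ?_)⟩
  simpa using congrArg Subtype.val hk

theorem two_dvd_card {X : Type*} [Group X] [Finite X] (hX : Core X) : 2 ∣ Nat.card X := by
  by_contra h
  exact hX.nsol (H16.FT.oddOrder (Nat.odd_iff.2 (by omega)))

section general

variable {X : Type*} [Group X] [Finite X] (hX : Core X)
  (hC : ∀ t : X, orderOf t = 2 → IsPGroup 2 (centralizer ({t} : Set X)))
include hX hC

theorem sylow_eq_centralizer (P : Sylow 2 X) :
    ∃ z : X, orderOf z = 2 ∧ centralizer ({z} : Set X) = (P : Subgroup X) := by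
  haveI : Fact (Nat.Prime 2) := ⟨Nat.prime_two⟩
  have hP1 := P.ne_bot_of_dvd_card (two_dvd_card hX)
  haveI : Nontrivial (P : Subgroup X) := (Subgroup.nontrivial_iff_ne_bot _).2 hP1
  haveI := P.isPGroup'.center_nontrivial
  obtain ⟨k, hk⟩ := IsPGroup.iff_card.1 (P.isPGroup'.to_subgroup (center (P : Subgroup X)))
  have hd : 2 ∣ Nat.card (center (P : Subgroup X)) := by
    rcases Nat.eq_zero_or_pos k with rfl | hk0
    · exact absurd hk (ne_of_gt (by rw [pow_zero]; exact Finite.one_lt_card))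
    · rw [hk]; exact dvd_pow_self 2 hk0.ne'
  obtain ⟨⟨⟨z, hzP⟩, hzc⟩, hz⟩ := exists_prime_orderOf_dvd_card' 2 hd
  rw [Subgroup.orderOf_mk, Subgroup.orderOf_mk] at hz
  exact ⟨z, hz, P.is_maximal' (hC z hz) fun a ha => mem_centralizer_singleton_iff.2
    (congrArg Subtype.val (Subgroup.mem_center_iff.1 hzc ⟨a, ha⟩))⟩

theorem normalizer_sylow (P : Sylow 2 X) :
    normalizer ((P : Subgroup X) : Set X) = (P : Subgroup X) := by
  obtain ⟨z, hz, hzP⟩ := sylow_eq_centralizer hX hC P
  rw [← hzP]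
  exact hX.normalizer_cent hz

/-- An element of odd prime order inverted by an involution is self-centralising. -/
theorem cent_le_zpowers {r : ℕ} [Fact r.Prime] (hr : r ≠ 2) {y s : X} (hy : orderOf y = r)
    (hs : orderOf s = 2) (hinv : s * y * s⁻¹ = y⁻¹) : centralizer ({y} : Set X) ≤ zpowers y := by
  intro c hc
  haveI : Fact (Nat.Prime 2) := ⟨Nat.prime_two⟩
  have hcy := mem_centralizer_singleton_iff.1 hc
  have hyR : IsPGroup r (zpowers y) := isPGroup_zpowers (k := 1) (by rw [hy, pow_one])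
  have hy1 : y ≠ 1 := fun e => by rw [e, orderOf_one] at hy; exact (Fact.out : r.Prime).one_lt.ne hy
  have hrodd : Odd r := (Fact.out : r.Prime).odd_of_ne_two hr
  have hcodd : Odd (orderOf c) := by
    by_contra h
    rw [Nat.not_odd_iff_even, even_iff_two_dvd] at h
    obtain ⟨t, ht⟩ := exists_prime_orderOf_dvd_card' (G := zpowers c) 2 (by rwa [Nat.card_zpowers])
    obtain ⟨i, hi⟩ := mem_zpowers_iff.1 t.2
    obtain ⟨k, hk⟩ := IsPGroup.iff_orderOf.1 (hC (t : X) (by rw [Subgroup.orderOf_coe, ht]))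
      ⟨y, mem_centralizer_singleton_iff.2
        (hi ▸ ((show Commute c y from hcy).symm.zpow_right i).eq)⟩
    rw [Subgroup.orderOf_mk, hy] at hk
    exact hr ((Nat.prime_dvd_prime_iff_eq Fact.out Nat.prime_two).1
      ((Fact.out : r.Prime).dvd_of_dvd_pow hk.dvd))
  have hsy : zpowers s ≤ normalizer ((zpowers y : Subgroup X) : Set X) := by
    refine zpowers_le.2 (mem_normalizer_of_conj_le fun x hx => ?_)
    obtain ⟨i, rfl⟩ := mem_zpowers_iff.1 hx
    rw [← conj_zpow, hinv, _root_.inv_zpow]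
    exact inv_mem (zpow_mem (mem_zpowers y) i)
  have hcN : c ∈ normalizer ((zpowers y : Subgroup X) : Set X) := by
    refine mem_normalizer_of_conj_le fun x hx => ?_
    obtain ⟨i, rfl⟩ := mem_zpowers_iff.1 hx
    rw [← conj_zpow, hcy, mul_inv_cancel_right]
    exact hx
  have hm := hX.conj_mem_sup hr hyR (zpowers_ne_bot' hy1)
    (isPGroup_zpowers (p := 2) (k := 1) (x := s) (by rw [hs, pow_one])) hsy hcN (mem_zpowers s)
  rw [← SetLike.mem_coe, Subgroup.coe_mul_of_right_le_normalizer_left _ _ hsy] at hm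
  obtain ⟨a, ha, v, hv, hav⟩ := Set.mem_mul.1 hm
  have hss := sq_eq_one_of_two hs
  have hsi : s⁻¹ = s := inv_eq_of_mul_eq_one_right hss
  have hv' : v = 1 ∨ v = s := by
    obtain ⟨i, rfl⟩ := mem_zpowers_iff.1 hv
    have h2z : s ^ (2 : ℤ) = 1 := by rw [zpow_two, hss]
    rcases Int.even_or_odd i with ⟨j, rfl⟩ | ⟨j, rfl⟩
    · left; rw [← two_mul, _root_.zpow_mul, h2z, _root_.one_zpow]
    · right; rw [_root_.zpow_add, _root_.zpow_mul, h2z, _root_.one_zpow, one_mul, zpow_one]
  rcases hv' with e | e <;> rw [e] at hav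
  · exfalso
    rw [mul_one] at hav
    have h := orderOf_dvd_of_mem_zpowers ha
    rw [hav, orderOf_conj_eq, hs, hy] at h
    exact hr ((Nat.prime_dvd_prime_iff_eq Nat.prime_two Fact.out).1 h).symm
  · obtain ⟨i, rfl⟩ := mem_zpowers_iff.1 ha
    obtain ⟨m, hm'⟩ := hrodd
    set w := y ^ (i * (m + 1)) with hw
    have hww : w * w = y ^ i := by
      rw [hw, ← _root_.zpow_add,
        show i * ((m : ℤ) + 1) + i * (m + 1) = i + i * ((2 * m + 1 : ℕ) : ℤ) by push_cast; ring,
        _root_.zpow_add, mul_comm i, _root_.zpow_mul, zpow_natCast, ← hm', ← hy, pow_orderOf_eq_one,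
        _root_.one_zpow, mul_one]
    have hsw : s * w * s⁻¹ = w⁻¹ := by rw [hw, ← conj_zpow, hinv, _root_.inv_zpow]
    have hws : w * s * w⁻¹ = c * s * c⁻¹ := by
      calc w * s * w⁻¹ = w * (s * w⁻¹ * s⁻¹) * s := by group
        _ = w * w * s := by rw [← conj_inv, hsw, inv_inv]
        _ = c * s * c⁻¹ := by rw [hww, hav]
    have hwc : Commute w c := by
      rw [hw]; exact ((show Commute c y from hcy).zpow_right _).symm
    have hcs : w⁻¹ * c ∈ centralizer ({s} : Set X) := mem_centralizer_singleton_iff.2 (by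
      calc w⁻¹ * c * s = w⁻¹ * (c * s * c⁻¹) * c := by group
        _ = w⁻¹ * (w * s * w⁻¹) * c := by rw [hws]
        _ = s * (w⁻¹ * c) := by group)
    obtain ⟨k, hk⟩ := IsPGroup.iff_orderOf.1 (hC s hs) ⟨_, hcs⟩
    rw [Subgroup.orderOf_mk] at hk
    have hwy : w⁻¹ ∈ zpowers y := inv_mem (zpow_mem (mem_zpowers y) _)
    have hd : orderOf (w⁻¹ * c) ∣ r * orderOf c :=
      (hwc.inv_left.orderOf_mul_dvd_lcm).trans ((Nat.lcm_dvd_mul _ _).trans
        (mul_dvd_mul_right (hy ▸ orderOf_dvd_of_mem_zpowers hwy) _))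
    rw [hk] at hd
    have h1 : w⁻¹ * c = 1 := by
      refine orderOf_eq_one_iff.1 ?_
      rw [hk]
      exact Nat.eq_one_of_dvd_coprimes
        ((Nat.coprime_two_left.2 ((show Odd r from ⟨m, hm'⟩).mul hcodd)).pow_left k) dvd_rfl hd
    rw [← inv_mul_eq_one.1 h1]
    exact zpow_mem (mem_zpowers y) _

end general

/-! ### The models -/

section psl2

variable {F : Type*} [Field F] [Fintype F]

local notation "G2" => Matrix.ProjectiveSpecialLinearGroup (Fin 2) F

theorem psl2_even (hG : Core G2)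
    (hC : ∀ t : G2, orderOf t = 2 → IsPGroup 2 (centralizer ({t} : Set G2)))
    {n : ℕ} (hq : Fintype.card F = 2 ^ n) : False := by
  haveI : Fact (Nat.Prime 2) := ⟨Nat.prime_two⟩
  haveI : CharP F 2 := charP_of_card_eq_prime_pow hq
  classical
  obtain ⟨P, hP⟩ := H39.exists_sylow_transl (F := F) 2
  have hB : (H39.borelP : Subgroup G2) ≤ (P : Subgroup G2) :=
    (normalizer_sylow hG hC P) ▸ H39.borelP_le_normalizer 2 hP
  have ha : ∀ a : Fˣ, a = 1 := by
    intro a
    let d : SL(2, F) := ⟨!![(a : F), 0; 0, (a : F)⁻¹], by simp [Matrix.det_fin_two]⟩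
    obtain ⟨t, ht⟩ := (hP _).1 (hB (H39.proj_mem_borelP.2 (by simp [d]) : H39.proj d ∈ H39.borelP))
    have h : (a : F) ^ 2 = 1 := by
      have := congrArg H39.mult ht
      rw [H39.mult_proj, H39.mult_transl] at this
      simpa [d] using this
    ext
    exact frobenius_inj F 2 (by rw [frobenius_def, frobenius_def, h, Units.val_one, one_pow])
  have h1 : Fintype.card Fˣ = 1 := Fintype.card_eq_one_iff.2 ⟨1, ha⟩
  rw [Fintype.card_units] at h1
  have h2 : Fintype.card F = 2 := by omega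
  refine hG.nsol (H33.isSolvable_of_two_primes Nat.prime_two Nat.prime_three fun r hr hd => ?_)
  rw [H39.card_G2_eq, h2] at hd
  norm_num at hd
  rcases (Nat.Prime.dvd_mul hr).1 (show r ∣ 2 * 3 from hd) with h | h
  · exact Or.inl ((Nat.prime_dvd_prime_iff_eq hr Nat.prime_two).1 h)
  · exact Or.inr ((Nat.prime_dvd_prime_iff_eq hr Nat.prime_three).1 h)

open Equiv in
theorem alt4_klein : ∃ (V : Subgroup (alternatingGroup (Fin 4))) (g : alternatingGroup (Fin 4)),
    Nat.card V = 4 ∧ V.Normal ∧ g ^ 3 = 1 ∧ g ≠ 1 := by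
  let V : Subgroup (alternatingGroup (Fin 4)) :=
    { carrier := {x | x * x = 1}
      one_mem' := by simp
      mul_mem' := fun {a b} => by
        simp only [Set.mem_setOf_eq]
        revert a b
        decide +kernel
      inv_mem' := fun {a} => by
        simp only [Set.mem_setOf_eq]
        intro h
        rw [← _root_.mul_inv_rev, h, inv_one] }
  refine ⟨V, ⟨swap 0 1 * swap 1 2, Perm.mem_alternatingGroup.2 (by decide)⟩, ?_, ⟨fun v hv g => ?_⟩,
    by decide, by decide⟩
  · show Nat.card {x : alternatingGroup (Fin 4) // x * x = 1} = 4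
    rw [Nat.card_eq_fintype_card]
    decide +kernel
  · show g * v * g⁻¹ * (g * v * g⁻¹) = 1
    rw [show g * v * g⁻¹ * (g * v * g⁻¹) = g * (v * v) * g⁻¹ by group, show v * v = 1 from hv]
    group

theorem psl2_odd (hG : Core G2)
    (hC : ∀ t : G2, orderOf t = 2 → IsPGroup 2 (centralizer ({t} : Set G2)))
    (hodd : Odd (Fintype.card F)) : False := by
  haveI : Fact (Nat.Prime 2) := ⟨Nat.prime_two⟩
  obtain ⟨l, hl⟩ := CharP.exists F
  haveI : Fact l.Prime := ⟨CharP.char_is_prime F l⟩
  have hql := card_eq_char hG l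
  have hqp : (Fintype.card F).Prime := hql ▸ Fact.out
  have hd := H39.gcd_eq_two hodd
  obtain ⟨t, ht⟩ := H39.exists_invol (F := F) hodd
  obtain ⟨k, hk⟩ := IsPGroup.iff_card.1 (hC t ht)
  have hk' := hk
  rw [H39.card_centralizer_invol l hodd ht, H39.evenHalf] at hk
  have hmod : Fintype.card F % 2 = 1 := Nat.odd_iff.1 hodd
  have hne3 : Fintype.card F ≠ 3 := fun h => by
    refine hG.nsol (H33.isSolvable_of_two_primes Nat.prime_two Nat.prime_three fun r hr hd' => ?_)
    rw [H39.card_G2_eq, h] at hd'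
    norm_num at hd'
    rcases (Nat.Prime.dvd_mul hr).1 (show r ∣ (2 * 2) * 3 from hd') with h' | h'
    · rcases (Nat.Prime.dvd_mul hr).1 h' with h'' | h'' <;>
        exact Or.inl ((Nat.prime_dvd_prime_iff_eq hr Nat.prime_two).1 h'')
    · exact Or.inr ((Nat.prime_dvd_prime_iff_eq hr Nat.prime_three).1 h')
  have hge : 5 ≤ Fintype.card F := by have := hqp.two_le; omega
  have hpow : ∀ j : ℕ, 2 ^ j % 3 = 1 ∨ 2 ^ j % 3 = 2 := by
    intro j
    induction j with
    | zero => simp
    | succ j ih => rw [pow_succ]; omega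
  have hq57 : Fintype.card F = 5 ∨ Fintype.card F = 7 := by
    rcases k with _ | k
    · rw [pow_zero] at hk
      split_ifs at hk <;> omega
    · rw [pow_succ] at hk
      have h3 := hpow k
      split_ifs at hk with h4
      · obtain ⟨y, hy, hc⟩ := H39.exists_tor_plus (F := F) l
        rw [hd] at hc
        have hpr := prime_of_odd_tor hG l hy (Nat.odd_iff.2 (by omega)) (by omega)
        rcases h3 with e | e
        · have := (Nat.prime_dvd_prime_iff_eq Nat.prime_three hqp).1 (by omega)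
          omega
        · have := (Nat.prime_dvd_prime_iff_eq Nat.prime_three hpr).1 (by omega)
          omega
      · obtain ⟨y, hy, hc⟩ := H39.exists_tor_minus (F := F) l (by rw [hd]; omega)
        rw [hd] at hc
        have hpr := prime_of_odd_tor hG l hy (Nat.odd_iff.2 (by omega)) (by omega)
        rcases h3 with e | e
        · have := (Nat.prime_dvd_prime_iff_eq Nat.prime_three hpr).1 (by omega)
          omega
        · have := (Nat.prime_dvd_prime_iff_eq Nat.prime_three hqp).1 (by omega)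
          omega
  have hl2 : l ≠ 2 := H39.two_ne_p l hodd
  obtain ⟨H, ⟨e⟩⟩ := (H39.exists_alt4_iff (F := F) l (n := 1) (by rw [pow_one, hql])).2
    fun h => hl2 h.1
  obtain ⟨V0, g0, hV0, hV0n, hg3, hg1⟩ := alt4_klein
  let f : alternatingGroup (Fin 4) →* G2 := H.subtype.comp e.symm.toMonoidHom
  have hf : Function.Injective f := H.subtype_injective.comp e.symm.injective
  set V := V0.map f with hVdef
  have hV : Nat.card V = 4 := by rw [hVdef, Subgroup.card_map_of_injective hf, hV0]
  have hV2 : IsPGroup 2 V := IsPGroup.of_card (n := 2) (by rw [hV]; norm_num)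
  obtain ⟨P, hVP⟩ := hV2.exists_le_sylow
  obtain ⟨z, hz, hzP⟩ := sylow_eq_centralizer hG hC P
  have hgN : f g0 ∈ normalizer (V : Set G2) := mem_normalizer_of_conj_le fun x hx => by
    obtain ⟨v, hv, rfl⟩ := hx
    exact ⟨g0 * v * g0⁻¹, hV0n.conj_mem v hv g0, by rw [map_mul, map_mul, map_inv]⟩
  have hPN : centralizer ({z} : Set G2) ≤ normalizer (V : Set G2) := by
    have hcz := H39.card_centralizer_invol l hodd hz
    rw [hzP] at hcz ⊢
    rw [H39.evenHalf] at hcz
    rcases hq57 with h | h <;> rw [h] at hcz <;> norm_num at hcz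
    · rw [Subgroup.eq_of_le_of_card_ge hVP (by rw [hcz, hV])]
      exact Subgroup.le_normalizer
    · have hi := (V.subgroupOf (P : Subgroup G2)).card_mul_index
      rw [Nat.card_congr (Subgroup.subgroupOfEquivOfLe hVP).toEquiv, hV, hcz] at hi
      haveI := Subgroup.normal_of_index_eq_two (show (V.subgroupOf (P : Subgroup G2)).index = 2 by omega)
      exact (normal_subgroupOf_iff_le_normalizer hVP).1 inferInstance
  have hVco := hG.coatom V (fun h => by rw [h, Subgroup.card_bot] at hV; omega)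
    (isBiprimary_of_isPGroup Nat.prime_two hV2)
  rcases eq_or_lt_of_le hPN with h | h
  · have hgP : f g0 ∈ (P : Subgroup G2) := hzP ▸ h.symm ▸ hgN
    obtain ⟨j, hj⟩ := IsPGroup.iff_orderOf.1 P.isPGroup' ⟨_, hgP⟩
    haveI : Fact (Nat.Prime 3) := ⟨Nat.prime_three⟩
    rw [Subgroup.orderOf_mk, orderOf_eq_prime (by rw [← map_pow, hg3, map_one])
      fun h1 => hg1 (hf (h1.trans (map_one f).symm))] at hj
    have := (Nat.prime_dvd_prime_iff_eq Nat.prime_three Nat.prime_two).1
      (Nat.prime_three.dvd_of_dvd_pow hj.dvd)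
    omega
  · exact hVco.1 ((hG.isCoatom_cent hz).2 _ h)

theorem exists_inverted_three (hq : Fintype.card F = 9) :
    ∃ y s : G2, orderOf y = 3 ∧ orderOf s = 2 ∧ s * y * s⁻¹ = y⁻¹ ∧
      9 ≤ Nat.card (centralizer ({y} : Set G2)) := by
  haveI : Fact (Nat.Prime 3) := ⟨Nat.prime_three⟩
  haveI : CharP F 3 := charP_of_card_eq_prime_pow (f := 2) (by rw [hq]; norm_num)
  obtain ⟨a, ha⟩ := (FiniteField.isSquare_neg_one_iff (F := F)).2 (by omega)
  have ha0 : a ≠ 0 := by rintro rfl; simp at ha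
  let d : SL(2, F) := ⟨!![a, 0; 0, a⁻¹], by simp [Matrix.det_fin_two, ha0]⟩
  have hai : a⁻¹ = -a := inv_eq_of_mul_eq_one_right (by rw [mul_neg, ← ha, neg_neg])
  have hd2 : H39.proj (d * d) = 1 := by
    have dv : (d : Matrix (Fin 2) (Fin 2) F) = !![a, 0; 0, a⁻¹] := rfl
    have : d * d = -1 := by
      ext i j
      rw [Matrix.SpecialLinearGroup.coe_mul, dv]
      fin_cases i <;> fin_cases j <;> simp [Matrix.mul_apply, Fin.sum_univ_two, hai, ← ha]
    rw [this, H39.proj_neg, map_one]
  have hm : H39.mult (H39.proj d) = -1 := by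
    rw [H39.mult_proj, pow_two]; simp [d, ← ha]
  have hd1 : H39.proj d ≠ 1 := fun h => by
    rw [h, ← H39.transl_zero, H39.mult_transl] at hm
    have h2 : ((2 : ℕ) : F) = 0 := by push_cast; linear_combination hm
    rw [CharP.cast_eq_zero_iff F 3] at h2
    norm_num at h2
  have hy : orderOf (H39.transl (1 : F)) = 3 := orderOf_eq_prime
    (by rw [transl_pow, CharP.cast_eq_zero, H39.transl_zero]) (H39.transl_ne_one one_ne_zero)
  refine ⟨H39.transl 1, H39.proj d, hy, orderOf_eq_prime (by rw [pow_two, ← map_mul, hd2]) hd1, ?_, ?_⟩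
  · rw [H39.conj_transl (H39.proj_mem_borelP.2 (by simp [d])), hm, neg_mul, one_mul]
    refine eq_inv_of_mul_eq_one_left ?_
    rw [H39.transl_mul, neg_add_cancel, H39.transl_zero]
  · rw [← hq, ← Nat.card_eq_fintype_card]
    refine Nat.card_le_card_of_injective (fun t : F => (⟨H39.transl t,
      mem_centralizer_singleton_iff.2 (by rw [H39.transl_mul, H39.transl_mul, add_comm])⟩ :
        centralizer ({H39.transl 1} : Set G2))) fun a b h => H39.transl_injective (congrArg Subtype.val h)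

end psl2

theorem psl3_four {F : Type*} [Field F] [Fintype F] (hq : Fintype.card F = 4)
    (hG : Core (Matrix.ProjectiveSpecialLinearGroup (Fin 3) F))
    (hC : ∀ t : Matrix.ProjectiveSpecialLinearGroup (Fin 3) F, orderOf t = 2 →
      IsPGroup 2 (centralizer ({t} : Set (Matrix.ProjectiveSpecialLinearGroup (Fin 3) F)))) : False := by
  haveI : Fact (Nat.Prime 2) := ⟨Nat.prime_two⟩
  haveI : Fact (Nat.Prime 3) := ⟨Nat.prime_three⟩
  haveI : CharP F 2 := charP_of_card_eq_prime_pow (f := 2) (by rw [hq]; norm_num)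
  classical
  obtain ⟨ω, hω⟩ := exists_prime_orderOf_dvd_card (G := Fˣ) 3 (by rw [Fintype.card_units, hq])
  set w : F := (ω : F)
  have hw3 : w ^ 3 = 1 := by
    rw [← Units.val_pow_eq_pow_val, ← hω, pow_orderOf_eq_one, Units.val_one]
  have hw1 : w ≠ 1 := fun h => by
    rw [Units.val_eq_one.1 h, orderOf_one] at hω
    omega
  have hneg : (-1 : F) = 1 := CharTwo.neg_eq 1
  let y : SL(3, F) := ⟨!![0, 0, 1; 1, 0, 0; 0, 1, 0], by simp [Matrix.det_fin_three]⟩
  let s : SL(3, F) := ⟨!![0, 1, 0; 1, 0, 0; 0, 0, 1], by simp [Matrix.det_fin_three, hneg]⟩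
  let d : SL(3, F) := ⟨!![1, 0, 0; 0, w, 0; 0, 0, w * w], by
    simp [Matrix.det_fin_three]; linear_combination hw3⟩
  let c : SL(3, F) := ⟨Matrix.scalar (Fin 3) w, by simp; linear_combination hw3⟩
  have hc : c ∈ center SL(3, F) := Matrix.SpecialLinearGroup.mem_center_iff.2
    ⟨w, by rw [Fintype.card_fin]; exact hw3, rfl⟩
  let π := QuotientGroup.mk' (center SL(3, F))
  have yv : (y : Matrix (Fin 3) (Fin 3) F) = !![0, 0, 1; 1, 0, 0; 0, 1, 0] := rfl
  have sv : (s : Matrix (Fin 3) (Fin 3) F) = !![0, 1, 0; 1, 0, 0; 0, 0, 1] := rfl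
  have dv : (d : Matrix (Fin 3) (Fin 3) F) = !![1, 0, 0; 0, w, 0; 0, 0, w * w] := rfl
  have cv : (c : Matrix (Fin 3) (Fin 3) F) = Matrix.scalar (Fin 3) w := rfl
  have hy3 : y ^ 3 = 1 := by
    ext i j
    simp only [pow_succ, pow_zero, one_mul, Matrix.SpecialLinearGroup.coe_mul,
      Matrix.SpecialLinearGroup.coe_one, yv]
    fin_cases i <;> fin_cases j <;> simp [Matrix.mul_apply, Fin.sum_univ_three]
  have hs2 : s * s = 1 := by
    ext i j
    rw [Matrix.SpecialLinearGroup.coe_mul, sv]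
    fin_cases i <;> fin_cases j <;> simp [Matrix.mul_apply, Fin.sum_univ_three]
  have hsy : s * y * s * y = 1 := by
    ext i j
    simp only [Matrix.SpecialLinearGroup.coe_mul, Matrix.SpecialLinearGroup.coe_one, sv, yv]
    fin_cases i <;> fin_cases j <;> simp [Matrix.mul_apply, Fin.sum_univ_three]
  have hdy : d * y = c * (y * d) := by
    ext i j
    simp only [Matrix.SpecialLinearGroup.coe_mul, cv, dv, yv]
    fin_cases i <;> fin_cases j <;>
      simp [Matrix.mul_apply, Fin.sum_univ_three, Matrix.scalar_apply] <;>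
      linear_combination -hw3
  have key : ∀ a : SL(3, F), π a = 1 → ∃ r : F, ∀ i j, a i j = if i = j then r else 0 := by
    intro a ha
    obtain ⟨r, -, hr⟩ := Matrix.SpecialLinearGroup.mem_center_iff.1
      ((QuotientGroup.eq_one_iff a).1 ha)
    refine ⟨r, fun i j => ?_⟩
    rw [← hr, Matrix.scalar_apply, Matrix.diagonal_apply]
  have hy1 : π y ≠ 1 := fun h => by
    obtain ⟨r, hr⟩ := key _ h
    simpa [y] using hr 1 0
  have hs1 : π s ≠ 1 := fun h => by
    obtain ⟨r, hr⟩ := key _ h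
    simpa [s] using hr 1 0
  have hyo : orderOf (π y) = 3 := orderOf_eq_prime (by rw [← map_pow, hy3, map_one]) hy1
  have hso : orderOf (π s) = 2 := orderOf_eq_prime (by rw [pow_two, ← map_mul, hs2, map_one]) hs1
  have hinv : π s * π y * (π s)⁻¹ = (π y)⁻¹ := by
    refine eq_inv_of_mul_eq_one_left ?_
    rw [inv_eq_of_mul_eq_one_right (show π s * π s = 1 by rw [← map_mul, hs2, map_one]),
      ← map_mul, ← map_mul, ← map_mul, hsy, map_one]
  have hdC : π d ∈ centralizer ({π y} : Set (Matrix.ProjectiveSpecialLinearGroup (Fin 3) F)) := by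
    refine mem_centralizer_singleton_iff.2 ?_
    show π d * π y = π y * π d
    have hπc : π c = 1 := (QuotientGroup.eq_one_iff c).2 hc
    rw [← map_mul, hdy, map_mul, hπc, one_mul, map_mul]
  have hmem := cent_le_zpowers hG hC (by norm_num : 3 ≠ 2) hyo hso hinv hdC
  rw [mem_zpowers_iff_mem_range_orderOf, hyo, Finset.mem_image] at hmem
  obtain ⟨k, hk3, hk⟩ := hmem
  rw [Finset.mem_range] at hk3
  have hk' : π ((y ^ k)⁻¹ * d) = 1 := by rw [map_mul, map_inv, map_pow, hk, inv_mul_cancel]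
  obtain ⟨r, hr⟩ := key _ hk'
  have hd : d = y ^ k * ((y ^ k)⁻¹ * d) := by group
  have hent : ∀ i j, d i j = (y ^ k) i j * r := by
    intro i j
    conv_lhs => rw [hd]
    rw [Matrix.SpecialLinearGroup.coe_mul, Matrix.mul_apply]
    simp [hr, mul_ite, Finset.sum_ite_eq']
  interval_cases k
  · have h1 := hent 0 0
    have h2 := hent 1 1
    simp [d] at h1 h2
    exact hw1 (h2.trans h1.symm)
  · have h1 := hent 1 0
    have h2 := hent 0 0
    rw [pow_one, yv, dv] at h1 h2
    simp at h1 h2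
  · have h1 := hent 0 1
    have h2 := hent 0 0
    rw [pow_two, Matrix.SpecialLinearGroup.coe_mul, yv, dv] at h1 h2
    simp [Matrix.mul_apply, Fin.sum_univ_three] at h1 h2

theorem suzuki_case {F : Type} [Field F] [Fintype F] {m : ℕ} (hm : 1 ≤ m)
    (hF : Fintype.card F = 2 ^ (2 * m + 1)) (hG : Core (Cfsg.Sz F m))
    (hC : ∀ t : Cfsg.Sz F m, orderOf t = 2 → IsPGroup 2 (centralizer ({t} : Set (Cfsg.Sz F m)))) :
    False := by
  have h := normalizer_sylow hG hC (H63.tSylow hm hF)
  rw [H63.coe_tSylow, H63.normalizer_tSub hm hF] at h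
  obtain ⟨k, hk⟩ : ∃ k : Fˣ, k ≠ 1 := by
    classical
    haveI : Nontrivial Fˣ := by
      rw [← Fintype.one_lt_card_iff_nontrivial, Fintype.card_units, hF]
      have h8 : 2 ^ 3 ≤ 2 ^ (2 * m + 1) := Nat.pow_le_pow_right two_pos (by omega)
      omega
    exact exists_ne 1
  obtain ⟨a, b, hab⟩ : H57.dEl hF k ∈ H57.tSub hF := h ▸ H63.dEl_mem_szB hF k
  have h0 := congrArg (fun g => g • H57.ovPt m (0 : F) 0) hab
  simp only [H57.dEl_ovPt_zero, H57.tEl_ovPt_zero] at h0
  obtain ⟨ha, hb⟩ := H57.ovPt_inj h0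
  rw [← ha, ← hb, H57.tEl_zero] at hab
  have h1 := H57.dEl_tEl_conj hF k 1 0
  rw [hab, one_mul, inv_one, mul_one] at h1
  obtain ⟨h2, -⟩ := H57.tEl_inj hF h1
  rw [mul_one] at h2
  exact hk (Units.ext h2.symm)

namespace Core

theorem not_cit {X : Type u} [Group X] [Finite X] (hX : Core X)
    (hC : ∀ t : X, orderOf t = 2 → IsPGroup 2 (centralizer ({t} : Set X))) : False := by
  haveI : Fact (Nat.Prime 2) := ⟨Nat.prime_two⟩
  haveI : Fact (Nat.Prime 3) := ⟨Nat.prime_three⟩
  rcases H22.CN.cit_structure hC hX.nsol with ⟨hs, hnc⟩ | ⟨N, hN, -, F, iF, jF, hq, ⟨e⟩⟩ |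
    ⟨N, hN, hN1, hN2, -⟩
  · haveI := hs
    rcases H11.CIT.citClass X hnc hC with ⟨F, iF, jF, hq, ⟨e⟩⟩ | ⟨F, iF, jF, hq, ⟨e⟩⟩ |
      ⟨F, iF, jF, m, hm, hq, ⟨e⟩⟩
    · rcases Nat.even_or_odd (Fintype.card F) with he | ho
      · rcases hq with h | ⟨n, h⟩ | ⟨hp, -⟩
        · rw [h] at he; exact absurd he (by decide)
        · exact psl2_even (hX.congr e) (cit_congr e hC) h
        · have : Fintype.card F = 2 ^ 1 := by
            rw [pow_one]; exact (Nat.Prime.even_iff hp).1 he
          exact psl2_even (hX.congr e) (cit_congr e hC) this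
      · exact psl2_odd (hX.congr e) (cit_congr e hC) ho
    · exact psl3_four hq (hX.congr e) (cit_congr e hC)
    · exact suzuki_case hm hq (hX.congr (e.trans (H57.lieSzEquiv hm hq).symm))
        (cit_congr (e.trans (H57.lieSzEquiv hm hq).symm) hC)
  · obtain ⟨y, s, hy, hs, hinv, hc⟩ := exists_inverted_three (F := F) hq
    let f : Matrix.ProjectiveSpecialLinearGroup (Fin 2) F →* X := N.subtype.comp e.symm.toMonoidHom
    have hf : Function.Injective f := N.subtype_injective.comp e.symm.injective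
    have hle := cent_le_zpowers hX hC (by norm_num : 3 ≠ 2) (y := f y) (s := f s)
      (by rw [orderOf_injective f hf, hy]) (by rw [orderOf_injective f hf, hs])
      (by rw [← map_inv, ← map_mul, ← map_mul, hinv, map_inv])
    have hle' : (centralizer ({y} : Set (Matrix.ProjectiveSpecialLinearGroup (Fin 2) F))).map f ≤
        zpowers (f y) := by
      rintro _ ⟨c, hc', rfl⟩
      refine hle (mem_centralizer_singleton_iff.2 ?_)
      rw [← map_mul, mem_centralizer_singleton_iff.1 hc', map_mul]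
    have h3 := Subgroup.card_le_of_le hle'
    rw [Subgroup.card_map_of_injective hf, Nat.card_zpowers, orderOf_injective f hf, hy] at h3
    omega
  · haveI := hN2.isNilpotent
    exact hN1 (hX.rad N hN inferInstance)

end Core

end H29.MaxNorm
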