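import Cfsg.Agent.H29.MaxNorm.CaseTwo

/-!
A group with maximal normalizers and trivial soluble radical is `PSL₂(13)`.
-/

set_option autoImplicit false
set_option linter.unusedSectionVars false

namespace H29.MaxNorm

open Subgroup
open scoped MatrixGroups

theorem Core.iso_thirteen {X : Type*} [Group X] [Finite X] (hX : Core X) :
    Nonempty (X ≃* Matrix.ProjectiveSpecialLinearGroup (Fin 2) (ZMod 13)) := by
  haveI : Fact (Nat.Prime 2) := ⟨Nat.prime_two⟩
  have key : ∀ (z : X) (P : Sylow 2 X), orderOf z = 2 → z ∈ (P : Subgroup X) →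
      (P : Subgroup X) ≤ centralizer ({z} : Set X) → ∀ p : ℕ, p.Prime → p ≠ 2 →
      p ∣ Nat.card (centralizer ({z} : Set X)) →
      Nonempty (X ≃* Matrix.ProjectiveSpecialLinearGroup (Fin 2) (ZMod 13)) := by
    intro z P hz hzP hPz p hp hp2 hpd
    haveI := Fact.mk hp
    obtain ⟨⟨y, hyC⟩, hy⟩ := exists_prime_orderOf_dvd_card' p hpd
    rw [Subgroup.orderOf_mk] at hy
    have hyz := mem_centralizer_singleton_iff.1 hyC
    obtain ⟨F, iF, jF, hodd, ⟨e⟩⟩ := hX.exists_psl hp2 hz hy hyz hzP hPz
    have hC : Nat.card (centralizer ({e z} : Set _)) = 4 * p := by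
      rw [← hX.card_cent hp2 hz hy hyz hzP hPz]
      refine (Nat.card_congr (e.toEquiv.subtypeEquiv fun a => ?_)).symm
      show a ∈ centralizer ({z} : Set X) ↔ e a ∈ centralizer ({e z} : Set _)
      rw [mem_centralizer_singleton_iff, mem_centralizer_singleton_iff, ← map_mul, ← map_mul,
        e.injective.eq_iff]
    obtain ⟨e'⟩ := nonempty_psl_thirteen (card_eq_thirteen (hX.congr e) hodd hp hp2
      (by rw [MulEquiv.orderOf_eq, hz]) hC)
    exact ⟨e.trans e'⟩
  by_contra hno
  refine hX.not_cit fun u hu => hX.cit_of_two_central (fun z P hz hzP hPz => ?_) hu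
  by_contra hne
  have h2 : IsPGroup 2 (centralizer ({z} : Set X)) := by
    refine IsPGroup.of_card (n := (Nat.card (centralizer ({z} : Set X))).primeFactorsList.length)
      (Nat.eq_prime_pow_of_unique_prime_dvd Nat.card_pos.ne' fun {d} hd hdd => ?_)
    by_contra hd2
    exact hno (key z P hz hzP hPz d hd hd2 hdd)
  exact hne (P.is_maximal' h2 hPz)

end H29.MaxNorm
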