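import Cfsg.Agent.H29.MaxNorm.Basic

/-!
Passing to the quotient by the soluble radical, and lifting normalisers back.
-/

set_option autoImplicit false
set_option linter.style.haveILetI false
set_option linter.unusedSectionVars false

namespace H29.MaxNorm

open Subgroup

theorem solvable_extension {G X : Type*} [Group G] [Group X] (f : G →* X) (A : Subgroup G)
    (hk : Group.IsSolvable f.ker) (hA : Group.IsSolvable (A.map f)) : Group.IsSolvable A := by
  haveI := hA
  haveI := hk
  haveI : Group.IsSolvable (f.subgroupMap A).ker := by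
    let g : (f.subgroupMap A).ker →* f.ker :=
      { toFun := fun a => ⟨((a : A) : G), congrArg Subtype.val (a.2 : f.subgroupMap A a.1 = 1)⟩
        map_one' := rfl
        map_mul' := fun _ _ => rfl }
    exact Group.isSolvable_of_isSolvable_injective (f := g) fun a b h =>
      Subtype.ext (Subtype.ext (congrArg (fun c : f.ker => (c : G)) h))
  exact Group.isSolvable_of_ker_le_range (f.subgroupMap A).ker.subtype (f.subgroupMap A)
    (by rw [Subgroup.range_subtype])

/-- Without soluble normal subgroups there are no soluble subnormal subgroups. -/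
theorem eq_bot_of_subnormal_solvable {X : Type*} [Group X] [Finite X]
    (hrad : ∀ N : Subgroup X, N.Normal → Group.IsSolvable N → N = ⊥) {L : Subgroup X}
    (hL : L.IsSubnormal) (hs : Group.IsSolvable L) : L = ⊥ := by
  classical
  by_contra hne
  have hex := (Group.isSolvable_def L).1 hs
  set n := Nat.find hex with hn
  have hnb : derivedSeries L n = ⊥ := Nat.find_spec hex
  obtain ⟨m, hm⟩ : ∃ m, n = m + 1 := by
    refine ⟨n - 1, ?_⟩
    rcases Nat.eq_zero_or_pos n with h0 | h0
    · exfalso
      rw [h0, derivedSeries_zero] at hnb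
      refine hne ((Subgroup.eq_bot_iff_forall L).2 fun x hx => ?_)
      have h1 : (⟨x, hx⟩ : L) ∈ (⊥ : Subgroup L) := by rw [← hnb]; exact Subgroup.mem_top _
      exact congrArg Subtype.val (Subgroup.mem_bot.1 h1)
    · omega
  have hA1 : derivedSeries L m ≠ ⊥ := fun h =>
    Nat.find_min hex (show m < Nat.find hex by omega) h
  have hab : ∀ a ∈ derivedSeries L m, ∀ b ∈ derivedSeries L m, a * b = b * a := by
    intro a ha b hb
    have := Subgroup.commutator_mem_commutator ha hb
    rw [← derivedSeries_succ, ← hm, hnb, Subgroup.mem_bot, commutatorElement_eq_one_iff_mul_comm]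
      at this
    exact this
  obtain ⟨p, hp, hpd⟩ := Nat.exists_prime_and_dvd (fun h => hA1 (Subgroup.card_eq_one.1 h))
  haveI := Fact.mk hp
  obtain ⟨⟨a, ha⟩, hao⟩ := exists_prime_orderOf_dvd_card' p hpd
  rw [Subgroup.orderOf_mk] at hao
  set A := (derivedSeries L m).map L.subtype with hA
  have hAL : A ≤ L := Subgroup.map_subtype_le _
  have hAs : A.IsSubnormal := by
    refine Subgroup.IsSubnormal.step A L hAL hL ?_
    rw [hA, ← Subgroup.comap_subtype, Subgroup.comap_map_eq_self_of_injective L.subtype_injective]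
    exact derivedSeries_normal _ m
  have haA : (a : X) ∈ A := ⟨a, ha, rfl⟩
  have hZs : (zpowers (a : X)).IsSubnormal := by
    refine Subgroup.IsSubnormal.step _ A (zpowers_le.2 haA) hAs ⟨fun x hx g => ?_⟩
    rw [Subgroup.mem_subgroupOf] at hx ⊢
    obtain ⟨gl, hgl, hge⟩ := g.2
    obtain ⟨xl, hxl, hxe⟩ := x.2
    have : g * x * g⁻¹ = x := by
      refine Subtype.ext ?_
      rw [Subgroup.coe_mul, Subgroup.coe_mul, Subgroup.coe_inv, ← hge, ← hxe, ← map_mul,
        hab gl hgl xl hxl, map_mul, mul_inv_cancel_right]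
    rw [this]; exact hx
  have hp' : IsPGroup p (zpowers (a : X)) :=
    IsPGroup.of_card (n := 1) (by rw [Nat.card_zpowers, Subgroup.orderOf_coe, hao, pow_one])
  have h1 := H32.isPGroup_le_pCore_of_subnormal hZs hp'
  haveI := (H1.isPGroup_pCore p X).isNilpotent
  rw [hrad _ (H1.pCore_normal' p X) inferInstance, le_bot_iff, zpowers_eq_bot] at h1
  rw [← Subgroup.orderOf_coe, h1, orderOf_one] at hao
  exact hp.one_lt.ne hao

variable {G : Type*} [Group G] [Finite G]

theorem exists_radical : ∃ R : Subgroup G, R.Normal ∧ Group.IsSolvable R ∧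
    ∀ M : Subgroup G, M.Normal → Group.IsSolvable M → M ≤ R := by
  obtain ⟨R, ⟨hRn, hRs⟩, hmax⟩ := Set.Finite.exists_maximal
    (s := {N : Subgroup G | N.Normal ∧ Group.IsSolvable N}) (Set.toFinite _)
    ⟨⊥, inferInstance, Group.isSolvable_of_comm fun a b => Subsingleton.elim _ _⟩
  refine ⟨R, hRn, hRs, fun M hM hMs => ?_⟩
  haveI := hRn
  haveI := hM
  haveI := hMs
  have hs : Group.IsSolvable (R ⊔ M : Subgroup G) := by
    refine solvable_extension (QuotientGroup.mk' R) _ (by rw [QuotientGroup.ker_mk']; exact hRs) ?_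
    rw [Subgroup.map_sup, QuotientGroup.map_mk'_self, bot_sup_eq]
    exact Group.isSolvable_of_surjective (MonoidHom.subgroupMap_surjective (QuotientGroup.mk' R) M)
  exact le_sup_right.trans (hmax ⟨Subgroup.sup_normal R M, hs⟩ le_sup_left)

section

variable (hG : HasMaxNorm G) {R : Subgroup G} [R.Normal] (hRs : Group.IsSolvable R)
  (hmax : ∀ M : Subgroup G, M.Normal → Group.IsSolvable M → M ≤ R)
  (hns : ¬ Group.IsSolvable G)
include hG hRs hmax hns

theorem quotient_rad : ∀ N : Subgroup (G ⧸ R), N.Normal → Group.IsSolvable N → N = ⊥ := by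
  intro N hN hs
  have hs' : Group.IsSolvable (N.comap (QuotientGroup.mk' R)) := by
    refine solvable_extension (QuotientGroup.mk' R) _ (by rw [QuotientGroup.ker_mk']; exact hRs) ?_
    rw [Subgroup.map_comap_eq_self_of_surjective (QuotientGroup.mk'_surjective R)]
    exact hs
  have := hmax _ (hN.comap _) hs'
  rw [← Subgroup.map_comap_eq_self_of_surjective (QuotientGroup.mk'_surjective R) N, eq_bot_iff,
    Subgroup.map_le_iff_le_comap, MonoidHom.comap_bot, QuotientGroup.ker_mk']
  exact this

theorem quotient_nsol : ¬ Group.IsSolvable (G ⧸ R) := fun h => by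
  haveI := h
  haveI := hRs
  exact hns (Group.isSolvable_of_ker_le_range R.subtype (QuotientGroup.mk' R)
    (by rw [QuotientGroup.ker_mk', Subgroup.range_subtype]))

/-- For a biprimary subgroup outside the radical, the normaliser is the preimage of the normaliser of
the image. -/
theorem mem_normalizer_iff_image {H : Subgroup G} (hH : IsBiprimary H) (hR : ¬ H ≤ R) (g : G) :
    g ∈ normalizer (H : Set G) ↔ QuotientGroup.mk' R g ∈
      normalizer ((H.map (QuotientGroup.mk' R) : Subgroup (G ⧸ R)) : Set (G ⧸ R)) := by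
  set π := QuotientGroup.mk' R with hπ
  have hrad := quotient_rad hG hRs hmax hns
  have hker : π.ker = R := QuotientGroup.ker_mk' R
  have hne : H.map π ≠ ⊥ := fun h => hR (by rwa [Subgroup.map_eq_bot_iff, hker] at h)
  haveI := hH.isSolvable
  have hs : Group.IsSolvable (H.map π) :=
    Group.isSolvable_of_surjective (MonoidHom.subgroupMap_surjective π H)
  have hnsub : ¬ H.IsSubnormal := fun h => hne (eq_bot_of_subnormal_solvable hrad
    (h.map (QuotientGroup.mk'_surjective R)) hs)
  have hco := hG H hnsub hH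
  have hRN : R ≤ normalizer (H : Set G) := by
    by_contra hle
    have htop : normalizer (H : Set G) ⊔ R = ⊤ := hco.2 _ (left_lt_sup.2 hle)
    have h1 : (normalizer (H : Set G)).map π = ⊤ := by
      have h := congrArg (Subgroup.map π) htop
      rwa [Subgroup.map_sup, hπ, QuotientGroup.map_mk'_self, sup_bot_eq,
        Subgroup.map_top_of_surjective _ (QuotientGroup.mk'_surjective R)] at h
    have h2 : normalizer ((H.map π : Subgroup (G ⧸ R)) : Set (G ⧸ R)) = ⊤ :=
      top_le_iff.1 (h1 ▸ Subgroup.le_normalizer_map π)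
    exact hne (hrad _ (normalizer_eq_top_iff.1 h2) hs)
  have hle : normalizer (H : Set G) ≤ (normalizer ((H.map π : Subgroup (G ⧸ R)) : Set (G ⧸ R))).comap π :=
    Subgroup.map_le_iff_le_comap.1 (Subgroup.le_normalizer_map π)
  have heq : normalizer (H : Set G) =
      (normalizer ((H.map π : Subgroup (G ⧸ R)) : Set (G ⧸ R))).comap π := by
    rcases eq_or_lt_of_le hle with e | e
    · exact e
    · exfalso
      have h1 := hco.2 _ e
      have h2 : normalizer ((H.map π : Subgroup (G ⧸ R)) : Set (G ⧸ R)) = ⊤ := by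
        rw [← Subgroup.map_comap_eq_self_of_surjective (QuotientGroup.mk'_surjective R)
          (normalizer ((H.map π : Subgroup (G ⧸ R)) : Set (G ⧸ R))), h1,
          Subgroup.map_top_of_surjective _ (QuotientGroup.mk'_surjective R)]
      exact hne (hrad _ (normalizer_eq_top_iff.1 h2) hs)
  rw [heq, Subgroup.mem_comap]

theorem le_normalizer_of_not_le {H : Subgroup G} (hH : IsBiprimary H) (hR : ¬ H ≤ R) :
    R ≤ normalizer (H : Set G) := fun r hr => by
  rw [mem_normalizer_iff_image hG hRs hmax hns hH hR,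
    show QuotientGroup.mk' R r = 1 from (QuotientGroup.eq_one_iff r).2 hr]
  exact one_mem _

theorem core_quotient : Core (G ⧸ R) := by
  have hrad := quotient_rad hG hRs hmax hns
  refine ⟨fun H hH hb => ?_, hrad, quotient_nsol hG hRs hmax hns⟩
  set π := QuotientGroup.mk' R with hπ
  have hπs : Function.Surjective π := QuotientGroup.mk'_surjective R
  obtain ⟨p, q, hp, hq, hpq⟩ := hb
  haveI hHs : Group.IsSolvable H := IsBiprimary.isSolvable ⟨p, q, hp, hq, hpq⟩
  set M := H.comap π with hM
  haveI : Group.IsSolvable M := solvable_extension π _ (by rw [hπ, QuotientGroup.ker_mk']; exact hRs)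
    (by rw [Subgroup.map_comap_eq_self_of_surjective hπs]; exact hHs)
  obtain ⟨L, -, hL, hLi⟩ := H1.hall_pi_exists_ge (G := M) (fun r => r = p ∨ r = q) ⊥
    (fun r hr hd => by rw [Subgroup.card_bot] at hd; exact absurd hd hr.not_dvd_one)
  set H' := L.map M.subtype with hH'
  have hH'b : IsBiprimary H' := ⟨p, q, hp, hq, fun r hr hd => hL r hr (by
    rwa [hH', Subgroup.card_map_of_injective M.subtype_injective] at hd)⟩
  let g : M →* H := (π.comp M.subtype).codRestrict H fun x => x.2
  have hg : Function.Surjective g := fun x => by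
    obtain ⟨y, hy⟩ := hπs x
    exact ⟨⟨y, show π y ∈ H by rw [hy]; exact x.2⟩, Subtype.ext hy⟩
  have hLg : L.map g = ⊤ := by
    rw [← Subgroup.index_eq_one]
    by_contra h1
    obtain ⟨r, hr, hrd⟩ := Nat.exists_prime_and_dvd h1
    exact hLi r hr (hrd.trans (Subgroup.index_map_dvd L hg))
      (hpq r hr (hrd.trans (Subgroup.index_dvd_card _)))
  have himg : H'.map π = H := by
    refine le_antisymm ?_ fun x hx => ?_
    · rintro _ ⟨_, ⟨y, -, rfl⟩, rfl⟩
      exact y.2
    · obtain ⟨y, hy, hye⟩ := (hLg.symm ▸ Subgroup.mem_top (⟨x, hx⟩ : H) : (⟨x, hx⟩ : H) ∈ L.map g)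
      exact ⟨y.1, ⟨y, hy, rfl⟩, congrArg Subtype.val hye⟩
  have hnR : ¬ H' ≤ R := fun h => hH (by
    rw [← himg, Subgroup.map_eq_bot_iff, hπ, QuotientGroup.ker_mk']; exact h)
  have hnsub : ¬ H'.IsSubnormal := fun h => hH (eq_bot_of_subnormal_solvable hrad
    (himg ▸ h.map hπs) hHs)
  have hN : normalizer (H' : Set G) = (normalizer (H : Set (G ⧸ R))).comap π := by
    ext x
    rw [mem_normalizer_iff_image hG hRs hmax hns hH'b hnR, himg, Subgroup.mem_comap]
  have hco := hG H' hnsub hH'b
  rw [hN] at hco
  refine ⟨fun h => hco.1 (by rw [h, Subgroup.comap_top]), fun K hK => ?_⟩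
  have h1 := hco.2 _ ((Subgroup.comap_lt_comap_of_surjective hπs).2 hK)
  rw [← Subgroup.map_comap_eq_self_of_surjective hπs K, h1, Subgroup.map_top_of_surjective _ hπs]

end

end H29.MaxNorm
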