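import Cfsg.Agent.H39.InvolTor
import Cfsg.Agent.H39.Platonic
import Cfsg.Agent.H39.Dickson
import Cfsg.Agent.H39.MinSimple
import Cfsg.Agent.H39.PSL2Multiplier

/-!
Facts about `PSL₂(13)`.
-/

set_option autoImplicit false
set_option linter.style.haveILetI false
set_option linter.unusedSectionVars false

namespace H29.MaxNorm

open Matrix Subgroup
open scoped MatrixGroups

universe u

local notation "P13" => Matrix.ProjectiveSpecialLinearGroup (Fin 2) (ZMod 13)

theorem p13_card : Nat.card P13 = 1092 := by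
  haveI : Fact (Nat.Prime 13) := ⟨by norm_num⟩
  rw [H39.card_G2_eq, ZMod.card]
  rfl

theorem p13_simple : IsSimpleGroup P13 := by
  haveI : Fact (Nat.Prime 13) := ⟨by norm_num⟩
  exact H39.G2_simple (by rw [ZMod.card]; norm_num)

theorem p13_nsol : ¬ Group.IsSolvable P13 := by
  haveI : Fact (Nat.Prime 13) := ⟨by norm_num⟩
  exact H39.G2_not_solvable (by rw [ZMod.card]; norm_num)

/-- Elements of order `3`, `7`, `13` inverted by some element. -/
theorem p13_inverted {p : ℕ} (hp : p = 3 ∨ p = 7 ∨ p = 13) :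
    ∃ y s : P13, orderOf y = p ∧ s * y * s⁻¹ = y⁻¹ := by
  haveI : Fact (Nat.Prime 13) := ⟨by norm_num⟩
  rcases eq_or_ne p 13 with rfl | hne
  · let d : SL(2, ZMod 13) := ⟨!![5, 0; 0, 8], by simp [Matrix.det_fin_two]; rfl⟩
    have hy : orderOf (H39.transl (1 : ZMod 13)) = 13 := by
      refine orderOf_eq_prime ?_ (H39.transl_ne_one one_ne_zero)
      have hk : ∀ k : ℕ, H39.transl (1 : ZMod 13) ^ k = H39.transl (k : ZMod 13) := fun k => by
        induction k with
        | zero => simp [H39.transl_zero]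
        | succ k ih => rw [pow_succ, ih, H39.transl_mul, Nat.cast_succ]
      rw [hk, show ((13 : ℕ) : ZMod 13) = 0 from rfl, H39.transl_zero]
    refine ⟨H39.transl 1, H39.proj d, hy, ?_⟩
    rw [H39.conj_transl (H39.proj_mem_borelP.2 (by rfl))]
    refine eq_inv_of_mul_eq_one_left ?_
    have hd00 : (d : Matrix (Fin 2) (Fin 2) (ZMod 13)) 0 0 = 5 := rfl
    have h26 : (5 : ZMod 13) ^ 2 * 1 + 1 = 0 := by rfl
    rw [H39.transl_mul, H39.mult_proj, hd00, h26, H39.transl_zero]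
  · have hp' : p.Prime := by rcases hp with rfl | rfl | rfl <;> norm_num
    haveI := Fact.mk hp'
    obtain ⟨y, hy⟩ := exists_prime_orderOf_dvd_card' (G := P13) p (by
      rw [p13_card]; rcases hp with rfl | rfl | rfl <;> norm_num)
    have hyp : y ^ 13 ≠ 1 := fun h => by
      have := orderOf_dvd_of_pow_eq_one h
      rw [hy] at this
      exact hne ((Nat.prime_dvd_prime_iff_eq hp' (by norm_num)).1 this)
    obtain ⟨s, hs, hsT⟩ := H39.exists_outside 13 hyp
    obtain ⟨-, -, hinv⟩ := H39.normalizer_outside 13 hyp hs hsT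
    exact ⟨y, s, hy, hinv y (H39.self_mem_tor y)⟩

open Equiv in
theorem alt4_cycle : ∃ a b c : alternatingGroup (Fin 4),
    a * a = 1 ∧ b * b = 1 ∧ a ≠ 1 ∧ b ≠ 1 ∧ a ≠ b ∧ a * b = b * a ∧ c * a * c⁻¹ = b ∧
      c * b * c⁻¹ = a * b :=
  ⟨⟨swap 0 1 * swap 2 3, Perm.mem_alternatingGroup.2 (by decide)⟩,
    ⟨swap 0 2 * swap 1 3, Perm.mem_alternatingGroup.2 (by decide)⟩,
    ⟨swap 1 3 * swap 1 2, Perm.mem_alternatingGroup.2 (by decide)⟩, by decide⟩

theorem p13_four : ∃ a b c : P13,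
    a * a = 1 ∧ b * b = 1 ∧ a ≠ 1 ∧ b ≠ 1 ∧ a ≠ b ∧ a * b = b * a ∧ c * a * c⁻¹ = b ∧
      c * b * c⁻¹ = a * b := by
  haveI : Fact (Nat.Prime 13) := ⟨by norm_num⟩
  obtain ⟨H, ⟨e⟩⟩ := (H39.exists_alt4_iff (F := ZMod 13) 13 (n := 1) (by rw [pow_one, ZMod.card])).2
    fun h => by simp at h
  obtain ⟨a, b, c, ha, hb, ha1, hb1, hab, hcomm, hc, hc'⟩ := alt4_cycle
  let f : alternatingGroup (Fin 4) →* P13 := H.subtype.comp e.symm.toMonoidHom
  have hf : Function.Injective f := H.subtype_injective.comp e.symm.injective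
  exact ⟨f a, f b, f c, by rw [← map_mul, ha, map_one], by rw [← map_mul, hb, map_one],
    fun h => ha1 (hf (h.trans (map_one f).symm)), fun h => hb1 (hf (h.trans (map_one f).symm)),
    fun h => hab (hf h), by rw [← map_mul, hcomm, map_mul],
    by rw [← map_inv, ← map_mul, ← map_mul, hc],
    by rw [← map_inv, ← map_mul, ← map_mul, ← map_mul, hc']⟩

/-- Perfect central extensions of `PSL₂(13)` are `PSL₂(13)` or `SL₂(13)`. -/
theorem p13_covering {Γ : Type u} [Group Γ] [Finite Γ] (σ : Γ →* P13) (hs : Function.Surjective σ)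
    (hc : σ.ker ≤ center Γ) (hperfΓ : commutator Γ = ⊤) :
    Nat.card σ.ker ∣ 2 ∧
      (Nonempty (Γ ≃* P13) ∨ Nonempty (Γ ≃* Matrix.SpecialLinearGroup (Fin 2) (ZMod 13))) := by
  haveI : Fact (Nat.Prime 13) := ⟨by norm_num⟩
  have hperf := H39.SL2_perfect' (F := ZMod 13) (by rw [ZMod.card]; norm_num)
  have htriv := H39.trivial_multiplier_SL2 (F := ZMod 13) (by rw [ZMod.card]; norm_num)
    (by rw [ZMod.card]; norm_num)
  let Y : Subgroup (Γ × SL(2, ZMod 13)) :=
    { carrier := {x | σ x.1 = H39.proj x.2}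
      one_mem' := by simp
      mul_mem' := by
        rintro a b (ha : σ a.1 = H39.proj a.2) (hb : σ b.1 = H39.proj b.2)
        show σ (a.1 * b.1) = H39.proj (a.2 * b.2)
        rw [map_mul, map_mul, ha, hb]
      inv_mem' := by
        rintro a (ha : σ a.1 = H39.proj a.2)
        show σ a.1⁻¹ = H39.proj a.2⁻¹
        rw [map_inv, map_inv, ha] }
  let τ : Y →* SL(2, ZMod 13) := (MonoidHom.snd _ _).comp Y.subtype
  have hτs : Function.Surjective τ := fun s => by
    obtain ⟨g, hg⟩ := hs (H39.proj s)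
    exact ⟨⟨(g, s), hg⟩, rfl⟩
  have hτc : τ.ker ≤ center Y := by
    rintro ⟨⟨g, s⟩, hy⟩ hk
    have hs1 : s = 1 := hk
    subst hs1
    have hg : g ∈ σ.ker := by
      rw [MonoidHom.mem_ker]; exact (show σ g = H39.proj 1 from hy).trans (map_one _)
    rw [Subgroup.mem_center_iff]
    rintro ⟨⟨g', s'⟩, hy'⟩
    exact Subtype.ext (Prod.ext (Subgroup.mem_center_iff.1 (hc hg) g') (by simp))
  obtain ⟨η, hη⟩ := H26.exists_section_of_trivial hperf htriv τ hτc hτs
  let ψ : SL(2, ZMod 13) →* Γ := (MonoidHom.fst _ _).comp (Y.subtype.comp η)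
  have hψ : ∀ s, σ (ψ s) = H39.proj s := fun s => by
    have h1 : σ (η s : Γ × SL(2, ZMod 13)).1 = H39.proj (η s : Γ × SL(2, ZMod 13)).2 := (η s).2
    have h2 : (η s : Γ × SL(2, ZMod 13)).2 = s := DFunLike.congr_fun hη s
    rw [h2] at h1
    exact h1
  have hD : ψ.range.map σ = ⊤ := eq_top_iff.2 fun x _ => by
    obtain ⟨s, rfl⟩ := H39.proj_surjective x
    exact ⟨ψ s, ⟨s, rfl⟩, hψ s⟩
  have hψs : Function.Surjective ψ := by
    rw [← MonoidHom.range_eq_top, eq_top_iff, ← hperfΓ,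
      H26.commutator_eq_of_surjective_on hc hD]
    exact Subgroup.map_subtype_le _
  have hSL : Nat.card SL(2, ZMod 13) = 2 * 1092 := by
    rw [Subgroup.card_eq_card_quotient_mul_card_subgroup (center SL(2, ZMod 13)), H37.card_center_SL,
      show Nat.card (SL(2, ZMod 13) ⧸ center SL(2, ZMod 13)) = Nat.card P13 from rfl, p13_card,
      Fintype.card_fin, Nat.card_zmod]
    rfl
  have hΓ : Nat.card Γ = Nat.card σ.ker * 1092 := by
    rw [← σ.ker.card_mul_index, Subgroup.index_ker, MonoidHom.range_eq_top.2 hs, Subgroup.card_top,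
      p13_card]
  have hd : Nat.card σ.ker * 1092 ∣ 2 * 1092 := by
    have h := Subgroup.card_dvd_of_surjective ψ hψs
    rwa [hSL, hΓ] at h
  have hd2 : Nat.card σ.ker ∣ 2 := (Nat.mul_dvd_mul_iff_right (by norm_num)).1 hd
  refine ⟨hd2, ?_⟩
  rcases (Nat.dvd_prime Nat.prime_two).1 hd2 with h | h
  · exact Or.inl ⟨MulEquiv.ofBijective σ ⟨σ.ker_eq_bot_iff.1 (Subgroup.card_eq_one.1 h), hs⟩⟩
  · exact Or.inr ⟨(MulEquiv.ofBijective ψ
      ((Nat.bijective_iff_surjective_and_card _).2 ⟨hψs, by rw [hSL, hΓ, h]⟩)).symm⟩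

end H29.MaxNorm
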