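import Cfsg.Agent.H29.MaxNorm.CoreThirteen
import Cfsg.Agent.H29.MaxNorm.Radical
import Cfsg.Agent.H29.MaxNorm.Thirteen
import Cfsg.Agent.H31.Hamilton

/-!
Groups with maximal normalizers of biprimary non-subnormal subgroups: lifting from `PSL₂(13)`.
-/

set_option autoImplicit false
set_option linter.style.haveILetI false
set_option linter.unusedSectionVars false

namespace H29.MaxNorm

open Subgroup
open scoped MatrixGroups

local notation "P13" => Matrix.ProjectiveSpecialLinearGroup (Fin 2) (ZMod 13)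

variable {G : Type*} [Group G] [Finite G]

/-- `π` presents `G` over `PSL₂(13)`, lifting normalisers of biprimary subgroups. -/
structure Over (π : G →* P13) : Prop where
  surj : Function.Surjective π
  solk : Group.IsSolvable π.ker
  norm : ∀ H : Subgroup G, IsBiprimary H → ¬ H ≤ π.ker → ∀ n : G,
    (∀ x ∈ H, ∃ y ∈ H, π y = π (n * x * n⁻¹)) → ∀ x ∈ H, n * x * n⁻¹ ∈ H

theorem exists_over (hG : HasMaxNorm G) (hns : ¬ Group.IsSolvable G) :
    ∃ π : G →* P13, Over π := by
  obtain ⟨R, hRn, hRs, hmax⟩ := exists_radical (G := G)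
  haveI := hRn
  obtain ⟨e⟩ := (core_quotient hG hRs hmax hns).iso_thirteen
  set π : G →* P13 := e.toMonoidHom.comp (QuotientGroup.mk' R) with hπ
  have hker : π.ker = R := by
    ext x
    rw [MonoidHom.mem_ker, hπ, MonoidHom.comp_apply, MulEquiv.coe_toMonoidHom,
      e.map_eq_one_iff, ← MonoidHom.mem_ker, QuotientGroup.ker_mk']
  refine ⟨π, e.surjective.comp (QuotientGroup.mk'_surjective R), hker.symm ▸ hRs,
    fun H hH hR n hn x hx => ?_⟩
  rw [hker] at hR
  refine conj_mem_of_normalizer ((mem_normalizer_iff_image hG hRs hmax hns hH hR n).2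
    (mem_normalizer_of_conj_le ?_)) hx
  rintro _ ⟨a, ha, rfl⟩
  obtain ⟨b, hb, hbe⟩ := hn a ha
  exact ⟨b, hb, by rw [← map_inv, ← map_mul, ← map_mul]; exact e.injective hbe⟩

namespace Over

variable {π : G →* P13} (hπ : Over π)
include hπ

theorem ker_conj {H : Subgroup G} (hH : IsBiprimary H) (hR : ¬ H ≤ π.ker) {r : G} (hr : r ∈ π.ker)
    {x : G} (hx : x ∈ H) : r * x * r⁻¹ ∈ H :=
  hπ.norm H hH hR r (fun a ha => ⟨a, ha, by
    rw [map_mul, map_mul, map_inv, MonoidHom.mem_ker.1 hr]; simp⟩) x hx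

/-- The perfect core. -/
theorem exists_core : ∃ K : Subgroup G, K.Normal ∧ ⁅K, K⁆ = K ∧ K.map π = ⊤ ∧
    ∀ N : Subgroup G, N.Normal → N.map π = ⊤ → K ≤ N := by
  classical
  obtain ⟨n, hn⟩ : ∃ n, derivedSeries G (n + 1) = derivedSeries G n := by
    by_contra h
    push Not at h
    have hdec : ∀ n, Nat.card (derivedSeries G n) + n ≤ Nat.card G := by
      intro n
      induction n with
      | zero => rw [derivedSeries_zero, Subgroup.card_top, add_zero]
      | succ n ih =>
        have hlt : Nat.card (derivedSeries G (n + 1)) < Nat.card (derivedSeries G n) := by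
          by_contra hge
          exact h n (Subgroup.eq_of_le_of_card_ge (derivedSeries_antitone G (Nat.le_succ n)) (by omega))
        omega
    have := hdec (Nat.card G + 1)
    omega
  have hperf : ⁅derivedSeries G n, derivedSeries G n⁆ = derivedSeries G n := by
    rw [← derivedSeries_succ]; exact hn
  haveI := p13_simple
  have hX : ∀ m, derivedSeries P13 m = ⊤ := by
    intro m
    induction m with
    | zero => exact derivedSeries_zero _
    | succ m ih =>
      rw [derivedSeries_succ, ih]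
      rcases (inferInstance : (⁅(⊤ : Subgroup P13), (⊤ : Subgroup P13)⁆).Normal).eq_bot_or_eq_top
        with h | h
      · exact absurd ((Group.isSolvable_def _).2 ⟨1, by rw [derivedSeries_succ, derivedSeries_zero, h]⟩)
          p13_nsol
      · exact h
  refine ⟨derivedSeries G n, derivedSeries_normal G n, hperf,
    by rw [map_derivedSeries_eq hπ.surj, hX], fun N hN hNX => ?_⟩
  haveI := hN
  have hs : Group.IsSolvable (G ⧸ N) := by
    haveI := hπ.solk
    refine Group.isSolvable_of_surjective (f := (QuotientGroup.mk' N).comp π.ker.subtype) fun x => ?_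
    obtain ⟨g, rfl⟩ := QuotientGroup.mk'_surjective N x
    obtain ⟨a, ha, hae⟩ : ∃ a ∈ N, π a = π g := (hNX.symm ▸ Subgroup.mem_top (π g) : π g ∈ N.map π)
    refine ⟨⟨a⁻¹ * g, by rw [MonoidHom.mem_ker, map_mul, map_inv, hae, inv_mul_cancel]⟩, ?_⟩
    have h1 : QuotientGroup.mk' N a = 1 := (QuotientGroup.eq_one_iff a).2 ha
    show QuotientGroup.mk' N (a⁻¹ * g) = QuotientGroup.mk' N g
    rw [map_mul, map_inv, h1, inv_one, one_mul]
  obtain ⟨m, hm⟩ := (Group.isSolvable_def _).1 hs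
  have hle : ∀ i, derivedSeries G n ≤ derivedSeries G i := by
    intro i
    induction i with
    | zero => rw [derivedSeries_zero]; exact le_top
    | succ i ih =>
      rw [derivedSeries_succ, ← hperf]
      exact Subgroup.commutator_mono ih ih
  refine (hle m).trans ?_
  rw [← map_derivedSeries_eq (QuotientGroup.mk'_surjective N), Subgroup.map_eq_bot_iff,
    QuotientGroup.ker_mk'] at hm
  exact hm

/-- A `q`-element of the kernel centralises the `p`-elements outside it, `p ≠ q`. -/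
theorem commute_outside {p q : ℕ} [Fact p.Prime] [Fact q.Prime] (hpq : p ≠ q) {g r : G} {a b : ℕ}
    (hg : g ^ p ^ a = 1) (hgR : g ∉ π.ker) (hr : r ∈ π.ker) (hrq : r ^ q ^ b = 1) :
    r * g = g * r := by
  classical
  have key : ∀ (a : ℕ) (x : G), x ^ p ^ a = 1 →
      (∃ d ∈ zpowers (x ^ p), r * x * r⁻¹ = x * d) → r * x * r⁻¹ = x := by
    intro a
    induction a with
    | zero => intro x hx _; rw [pow_zero, pow_one] at hx; simp [hx]
    | succ a ih =>
      rintro x hx ⟨d, hd, hde⟩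
      obtain ⟨i, rfl⟩ := mem_zpowers_iff.1 hd
      have hc : Commute x ((x ^ p) ^ i) := (Commute.self_pow x p).zpow_right i
      have hfix : r * x ^ p * r⁻¹ = x ^ p := by
        refine ih _ (by rw [← pow_mul, ← pow_succ']; exact hx) ⟨((x ^ p) ^ i) ^ p, ?_, ?_⟩
        · rw [← zpow_natCast ((x ^ p) ^ i) p, ← zpow_mul, mul_comm, zpow_mul, zpow_natCast]
          exact zpow_mem (mem_zpowers _) i
        · rw [← conj_pow, hde, hc.mul_pow]
      have hfd : r * (x ^ p) ^ i * r⁻¹ = (x ^ p) ^ i := by rw [← conj_zpow, hfix]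
      have hn : ∀ n : ℕ, r ^ n * x * (r ^ n)⁻¹ = x * ((x ^ p) ^ i) ^ n := by
        intro n
        induction n with
        | zero => simp
        | succ n ihn =>
          rw [pow_succ', show r * r ^ n * x * (r * r ^ n)⁻¹ = r * (r ^ n * x * (r ^ n)⁻¹) * r⁻¹ by
            group, ihn, show r * (x * ((x ^ p) ^ i) ^ n) * r⁻¹ =
            (r * x * r⁻¹) * (r * ((x ^ p) ^ i) ^ n * r⁻¹) by group, hde, ← conj_pow, hfd, mul_assoc,
            ← pow_succ']
      have h1 := hn (q ^ b)
      rw [hrq, one_mul, inv_one, mul_one] at h1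
      have h2 : ((x ^ p) ^ i) ^ q ^ b = 1 := mul_left_cancel (h1.symm.trans (mul_one x).symm)
      have h3 : ((x ^ p) ^ i) ^ p ^ (a + 1) = 1 := by
        rw [← zpow_natCast, ← zpow_mul, mul_comm, zpow_mul, zpow_natCast, ← pow_mul, mul_comm,
          pow_mul, hx, one_pow, one_zpow]
      have h4 : (x ^ p) ^ i = 1 := orderOf_eq_one_iff.1 (Nat.eq_one_of_dvd_coprimes
        (((Nat.coprime_primes Fact.out Fact.out).2 hpq).pow (a + 1) b)
        (orderOf_dvd_of_pow_eq_one h3) (orderOf_dvd_of_pow_eq_one h2))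
      rw [hde, h4, mul_one]
  have hgp : orderOf g ∣ p ^ a := orderOf_dvd_of_pow_eq_one hg
  have hH : IsBiprimary (zpowers g) :=
    isBiprimary_of_isPGroup (p := p) Fact.out (isPGroup_zpowers hgp)
  have hm := hπ.ker_conj hH (fun h => hgR (h (mem_zpowers g))) hr (mem_zpowers g)
  have hd : g⁻¹ * (r * g * r⁻¹) ∈ zpowers g := mul_mem (inv_mem (mem_zpowers g)) hm
  have hdR : g⁻¹ * (r * g * r⁻¹) ∈ π.ker := by
    rw [MonoidHom.mem_ker, map_mul, map_mul, map_mul, map_inv, map_inv, MonoidHom.mem_ker.1 hr]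
    simp
  rw [mem_zpowers_iff_mem_range_orderOf, Finset.mem_image] at hd
  obtain ⟨j, -, hj⟩ := hd
  have hpj : p ∣ j := by
    by_contra hpj
    obtain ⟨i, -, hi⟩ := (Nat.dvd_prime_pow Fact.out).1 hgp
    obtain ⟨m, hm'⟩ := exists_pow_eq_self_of_coprime (x := g) (n := j) (by
      rw [hi]; exact ((((Fact.out : p.Prime).coprime_iff_not_dvd).2 hpj).symm.pow_right i))
    exact hgR (hm' ▸ pow_mem (hj.symm ▸ hdR) m)
  obtain ⟨t, rfl⟩ := hpj
  have := key a g hg ⟨g ^ (p * t), by rw [pow_mul]; exact pow_mem (mem_zpowers _) t, by rw [hj]; group⟩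
  exact mul_inv_eq_iff_eq_mul.1 this

theorem exists_outside_elem {p : ℕ} (hp : p = 3 ∨ p = 7 ∨ p = 13) :
    ∃ g : G, ∃ a : ℕ, g ^ p ^ a = 1 ∧ g ∉ π.ker := by
  have hpp : p.Prime := by rcases hp with rfl | rfl | rfl <;> norm_num
  haveI := Fact.mk hpp
  obtain ⟨y, -, hy, -⟩ := p13_inverted hp
  obtain ⟨g, rfl⟩ := hπ.surj y
  obtain ⟨a, m, hm, he⟩ := Nat.exists_eq_pow_mul_and_not_dvd (orderOf_pos g).ne' p hpp.ne_one
  refine ⟨g ^ m, a, by rw [← pow_mul, mul_comm, ← he, pow_orderOf_eq_one], fun h => hm ?_⟩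
  rw [← hy]
  exact orderOf_dvd_of_pow_eq_one (by rw [← map_pow]; exact h)

/-- The perfect core centralises the kernel. -/
theorem commute_core {K : Subgroup G}
    (hmin : ∀ N : Subgroup G, N.Normal → N.map π = ⊤ → K ≤ N)
    {k r : G} (hk : k ∈ K) (hr : r ∈ π.ker) : k * r = r * k := by
  have hprime : ∀ (q b : ℕ) (r : G), q.Prime → r ∈ π.ker → r ^ q ^ b = 1 → k * r = r * k := by
    intro q b r hq hr hrq
    haveI := Fact.mk hq
    obtain ⟨p, hp, hpq⟩ : ∃ p, (p = 3 ∨ p = 7 ∨ p = 13) ∧ p ≠ q := by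
      by_cases h : q = 3
      · exact ⟨7, by norm_num, by omega⟩
      · exact ⟨3, by norm_num, fun e => h e.symm⟩
    haveI : Fact p.Prime := ⟨by rcases hp with rfl | rfl | rfl <;> norm_num⟩
    set T : Set G := {g | g ∉ π.ker ∧ ∃ a : ℕ, g ^ p ^ a = 1} with hT
    have hle : Subgroup.closure T ≤ centralizer ({r} : Set G) := by
      rw [Subgroup.closure_le]
      rintro g ⟨hg, a, ha⟩
      exact mem_centralizer_singleton_iff.2 (hπ.commute_outside hpq ha hg hr hrq).symm
    have hTn : (Subgroup.closure T).Normal := by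
      refine ⟨fun x hx g => ?_⟩
      have : Subgroup.closure T ≤ (Subgroup.closure T).comap (MulAut.conj g).toMonoidHom := by
        rw [Subgroup.closure_le]
        rintro t ⟨ht, a, ha⟩
        refine Subgroup.subset_closure ⟨?_, a, ?_⟩
        · intro h
          have h1 := (inferInstance : π.ker.Normal).conj_mem _ h g⁻¹
          simp only [MulEquiv.coe_toMonoidHom, MulAut.conj_apply, inv_inv] at h1
          exact ht (by rwa [show g⁻¹ * (g * t * g⁻¹) * g = t by group] at h1)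
        · show (g * t * g⁻¹) ^ p ^ a = 1
          rw [conj_pow, ha, mul_one, mul_inv_cancel]
      exact this hx
    haveI := p13_simple
    have htop : (Subgroup.closure T).map π = ⊤ := by
      rcases (hTn.map π hπ.surj).eq_bot_or_eq_top with h | h
      · obtain ⟨g, a, ha, hg⟩ := hπ.exists_outside_elem hp
        rw [Subgroup.map_eq_bot_iff] at h
        exact absurd (h (Subgroup.subset_closure ⟨hg, a, ha⟩)) hg
      · exact h
    exact mem_centralizer_singleton_iff.1 (hle (hmin _ hTn htop hk))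
  have h : (centralizer ({k} : Set G)).subgroupOf π.ker = ⊤ :=
    H35.eq_top_of_prime_pow_mem _ fun q b x hq hx => by
      rw [Subgroup.mem_subgroupOf, mem_centralizer_singleton_iff]
      exact (hprime q b x hq x.2 (by rw [← hx, ← Subgroup.orderOf_coe, pow_orderOf_eq_one])).symm
  exact (mem_centralizer_singleton_iff.1 ((Subgroup.subgroupOf_eq_top.1 h) hr)).symm

/-- All subgroups of the kernel are normal in it. -/
theorem allNormal : H31.Hamilton.AllNormal π.ker := by
  intro H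
  refine ⟨fun x hx s => ?_⟩
  have h : ((H.comap (MulAut.conj s).toMonoidHom).subgroupOf H) = ⊤ := by
    refine H35.eq_top_of_prime_pow_mem _ fun p b z hp hz => ?_
    rw [Subgroup.mem_subgroupOf, Subgroup.mem_comap]
    haveI := Fact.mk hp
    set r : G := ((z : π.ker) : G) with hr
    have hro : orderOf r = p ^ b := by rw [hr, Subgroup.orderOf_coe, Subgroup.orderOf_coe, hz]
    obtain ⟨q, hq, hqp⟩ : ∃ q, (q = 3 ∨ q = 7 ∨ q = 13) ∧ q ≠ p := by
      by_cases h : p = 3
      · exact ⟨7, by norm_num, by omega⟩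
      · exact ⟨3, by norm_num, fun e => h e.symm⟩
    haveI : Fact q.Prime := ⟨by rcases hq with rfl | rfl | rfl <;> norm_num⟩
    obtain ⟨g, a, ha, hg⟩ := hπ.exists_outside_elem hq
    have hrR : r ∈ π.ker := (z : π.ker).2
    have hgr := hπ.commute_outside hqp ha hg hrR (b := b) (by rw [← hro, pow_orderOf_eq_one])
    have hn : zpowers g ≤ normalizer ((zpowers r : Subgroup G) : Set G) := by
      refine zpowers_le.2 (mem_normalizer_of_conj_le fun y hy => ?_)
      obtain ⟨i, rfl⟩ := mem_zpowers_iff.1 hy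
      rw [← ((show Commute r g from hgr).zpow_left i).eq, mul_inv_cancel_right]
      exact zpow_mem (mem_zpowers r) i
    have hgP := isPGroup_zpowers (p := q) (k := a) (orderOf_dvd_of_pow_eq_one ha)
    have hrP := isPGroup_zpowers (p := p) (k := b) hro.dvd
    have hm := hπ.ker_conj (card_sup_dvd hrP hgP hn)
      (fun h => hg (h (Subgroup.mem_sup_right (mem_zpowers g)))) (s : π.ker).2
      (Subgroup.mem_sup_left (mem_zpowers r))
    have hm' := mem_left_of_mem_sup (Ne.symm hqp) hrP hgP hn hm (k := b)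
      (by rw [orderOf_conj_eq, hro])
    obtain ⟨i, hi⟩ := mem_zpowers_iff.1 hm'
    have : MulAut.conj s ((z : π.ker)) = (z : π.ker) ^ i := Subtype.ext (by
      rw [SubgroupClass.coe_zpow, ← hr, hi, MulAut.conj_apply, Subgroup.coe_mul, Subgroup.coe_mul,
        Subgroup.coe_inv])
    show MulAut.conj s (z : π.ker) ∈ H
    rw [this]
    exact zpow_mem z.2 i
  exact (Subgroup.subgroupOf_eq_top.1 h) hx

theorem mul_core {K : Subgroup G} (hKX : K.map π = ⊤) (g : G) :
    ∃ k ∈ K, ∃ r ∈ π.ker, g = k * r := by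
  obtain ⟨k, hk, hke⟩ : ∃ k ∈ K, π k = π g := (hKX.symm ▸ Subgroup.mem_top (π g) : π g ∈ K.map π)
  exact ⟨k, hk, k⁻¹ * g, by rw [MonoidHom.mem_ker, map_mul, map_inv, hke, inv_mul_cancel],
    (mul_inv_cancel_left k g).symm⟩

/-- Odd elements of the kernel are central. -/
theorem odd_central {K : Subgroup G} (hKX : K.map π = ⊤)
    (hmin : ∀ N : Subgroup G, N.Normal → N.map π = ⊤ → K ≤ N)
    {x : G} (hx : x ∈ π.ker) (hodd : Odd (orderOf x)) : x ∈ center G := by
  refine Subgroup.mem_center_iff.2 fun g => ?_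
  obtain ⟨k, hk, r, hr, rfl⟩ := hπ.mul_core hKX g
  have h1 := hπ.commute_core hmin hk hx
  have h2 : r * x = x * r := congrArg Subtype.val (Subgroup.mem_center_iff.1
    (H31.Hamilton.odd_mem_center hπ.allNormal (x := (⟨x, hx⟩ : π.ker)) (by rwa [Subgroup.orderOf_mk]))
    ⟨r, hr⟩)
  calc k * r * x = k * (x * r) := by rw [mul_assoc, h2]
    _ = x * (k * r) := by rw [← mul_assoc, h1, mul_assoc]

/-- The kernel has no elements of order `3`, `7` or `13`. -/
theorem no_order {K : Subgroup G} (hKn : K.Normal) (hKX : K.map π = ⊤)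
    (hmin : ∀ N : Subgroup G, N.Normal → N.map π = ⊤ → K ≤ N)
    (hZ : ∀ z ∈ K, π z = 1 → z * z = 1) {p : ℕ} (hp : p = 3 ∨ p = 7 ∨ p = 13)
    {x : G} (hx : x ∈ π.ker) : orderOf x ≠ p := by
  intro hxo
  have hpp : p.Prime := by rcases hp with rfl | rfl | rfl <;> norm_num
  have hp2 : p ≠ 2 := by rcases hp with rfl | rfl | rfl <;> norm_num
  haveI := Fact.mk hpp
  have hxc := hπ.odd_central hKX hmin hx (by rw [hxo]; exact hpp.odd_of_ne_two hp2)
  obtain ⟨y, s, hy, hs⟩ := p13_inverted hp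
  obtain ⟨k, hk, hky⟩ : ∃ k ∈ K, π k = y := (hKX.symm ▸ Subgroup.mem_top y : y ∈ K.map π)
  obtain ⟨n, hns⟩ := hπ.surj s
  set g := k * k with hgd
  have hgK : g ∈ K := mul_mem hk hk
  have hπg : π g = y * y := by rw [hgd, map_mul, hky]
  have hgp : g ^ p = 1 := by
    rw [hgd, ← pow_two, ← pow_mul, mul_comm, pow_mul, pow_two]
    exact hZ _ (pow_mem hk p) (by rw [map_pow, hky, ← hy, pow_orderOf_eq_one])
  have hy2 : orderOf (y * y) = p := by
    have hco : (orderOf y).Coprime 2 := by rw [hy]; exact (Nat.coprime_primes hpp Nat.prime_two).2 hp2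
    rw [← pow_two, hco.orderOf_pow, hy]
  have hxp : x ^ p = 1 := by rw [← hxo]; exact pow_orderOf_eq_one x
  have hgx : Commute g x := (Subgroup.mem_center_iff.1 hxc g)
  set w := g * x with hw
  have hπw : π w = y * y := by rw [hw, map_mul, MonoidHom.mem_ker.1 hx, mul_one, hπg]
  have hwR : w ∉ π.ker := fun h => by
    rw [MonoidHom.mem_ker, hπw] at h
    rw [h, orderOf_one] at hy2
    exact hpp.one_lt.ne hy2
  have hwp : w ^ p = 1 := by rw [hw, hgx.mul_pow, hgp, hxp, one_mul]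
  have hinv : s * (y * y) * s⁻¹ = (y * y)⁻¹ := by
    rw [show s * (y * y) * s⁻¹ = (s * y * s⁻¹) * (s * y * s⁻¹) by group, hs, _root_.mul_inv_rev]
  have hn : ∀ a ∈ zpowers w, ∃ b ∈ zpowers w, π b = π (n * a * n⁻¹) := by
    intro a ha
    obtain ⟨i, rfl⟩ := mem_zpowers_iff.1 ha
    refine ⟨(w ^ i)⁻¹, inv_mem (zpow_mem (mem_zpowers w) i), ?_⟩
    rw [map_inv, map_mul, map_mul, map_inv, map_zpow, hπw, hns, ← conj_zpow, hinv, inv_zpow]
  have hm := hπ.norm (zpowers w)
    (isBiprimary_of_isPGroup hpp (isPGroup_zpowers (k := 1) (orderOf_dvd_of_pow_eq_one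
      (by rw [pow_one, hwp])))) (fun h => hwR (h (mem_zpowers w))) n hn w (mem_zpowers w)
  obtain ⟨i, hi⟩ := mem_zpowers_iff.1 hm
  set c := g * (n * g * n⁻¹) with hc
  have hcK : c ∈ K := mul_mem hgK (hKn.conj_mem g hgK n)
  have hπc : π c = 1 := by
    rw [hc, hgd]
    simp only [map_mul, map_inv, hky, hns]
    rw [hinv, mul_inv_cancel]
  have hcg : Commute g c := hπ.commute_core hmin hgK (MonoidHom.mem_ker.2 hπc)
  have hc1 : c = 1 := by
    have h2 : c ^ 2 = 1 := by rw [pow_two]; exact hZ c hcK hπc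
    have hngn : n * g * n⁻¹ = g⁻¹ * c := by rw [hc]; group
    have h3 : c ^ p = 1 := by
      have : (g⁻¹ * c) ^ p = 1 := by rw [← hngn, conj_pow, hgp, mul_one, mul_inv_cancel]
      rwa [hcg.inv_left.mul_pow, inv_pow, hgp, inv_one, one_mul] at this
    exact orderOf_eq_one_iff.1 (Nat.eq_one_of_dvd_coprimes ((Nat.coprime_primes hpp Nat.prime_two).2 hp2)
      (orderOf_dvd_of_pow_eq_one h3) (orderOf_dvd_of_pow_eq_one h2))
  have hngn : n * g * n⁻¹ = g⁻¹ := eq_inv_of_mul_eq_one_right hc1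
  have hnx : n * x * n⁻¹ = x := by rw [Subgroup.mem_center_iff.1 hxc n, mul_inv_cancel_right]
  have e : g ^ i * x ^ i = g⁻¹ * x := by
    rw [← hgx.mul_zpow, ← hw, hi, hw,
      show n * (g * x) * n⁻¹ = (n * g * n⁻¹) * (n * x * n⁻¹) by group, hngn, hnx]
  have e1 : (y * y) ^ i = (y * y)⁻¹ := by
    have h := congrArg π e
    simpa [map_mul, map_zpow, map_inv, hπg, MonoidHom.mem_ker.1 hx] using h
  have d1 : (p : ℤ) ∣ i + 1 := by
    rw [← hy2, orderOf_dvd_iff_zpow_eq_one, zpow_add, zpow_one, e1, inv_mul_cancel]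
  have hgi : g ^ i = g⁻¹ := by
    obtain ⟨t, ht⟩ := d1
    rw [show i = (p : ℤ) * t - 1 by omega, zpow_sub, zpow_mul, zpow_natCast, hgp, one_zpow, one_mul,
      zpow_one]
  rw [hgi] at e
  have d2 : (p : ℤ) ∣ i - 1 := by
    rw [← hxo, orderOf_dvd_iff_zpow_eq_one, zpow_sub, zpow_one, mul_left_cancel e, mul_inv_cancel]
  have := dvd_sub d1 d2
  rw [show i + 1 - (i - 1) = ((2 : ℕ) : ℤ) by push_cast; ring, Int.natCast_dvd_natCast] at this
  exact hp2 ((Nat.prime_dvd_prime_iff_eq hpp Nat.prime_two).1 this)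

/-- No `2`-element of the kernel lies just outside the core. -/
theorem two_mem {K : Subgroup G} (hKn : K.Normal) (hKX : K.map π = ⊤)
    (hmin : ∀ N : Subgroup G, N.Normal → N.map π = ⊤ → K ≤ N)
    (hZ : ∀ z ∈ K, π z = 1 → z * z = 1) {r : G} (hr : r ∈ π.ker) (hrr : r * r ∈ K) : r ∈ K := by
  by_contra hrK
  obtain ⟨a, b, c, ha, hb, ha1, hb1, hab, hcomm, hca, hcb⟩ := p13_four
  have hπr := MonoidHom.mem_ker.1 hr
  have hkr : ∀ k ∈ K, k * r = r * k := fun k hk => hπ.commute_core hmin hk hr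
  have e11 : a * (a * b) = b := by rw [← mul_assoc, ha, one_mul]
  have e12 : a * b * a = b := by rw [mul_assoc, ← hcomm, e11]
  have e13 : b * a = a * b := hcomm.symm
  have e14 : b * (a * b) = a := by rw [← mul_assoc, e13, mul_assoc, hb, mul_one]
  have e15 : a * b * b = a := by rw [mul_assoc, hb, mul_one]
  have e16 : a * b * (a * b) = 1 := by rw [mul_assoc, e14, ha]
  let W0 : Submonoid G :=
    { carrier := {x | ∃ k ∈ K, ((π k = 1 ∨ π k = b) ∧ x = k) ∨ ((π k = a ∨ π k = a * b) ∧ x = k * r)}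
      one_mem' := ⟨1, one_mem _, Or.inl ⟨Or.inl (map_one π), rfl⟩⟩
      mul_mem' := by
        rintro x x' ⟨k, hk, h⟩ ⟨k', hk', h'⟩
        rcases h with ⟨hπk, e⟩ | ⟨hπk, e⟩ <;> rcases h' with ⟨hπk', e'⟩ | ⟨hπk', e'⟩ <;> rw [e, e']
        · refine ⟨k * k', mul_mem hk hk', Or.inl ⟨?_, rfl⟩⟩
          rw [map_mul]
          rcases hπk with u | u <;> rcases hπk' with u' | u' <;> rw [u, u'] <;> simp [hb]
        · refine ⟨k * k', mul_mem hk hk', Or.inr ⟨?_, by rw [mul_assoc]⟩⟩
          rw [map_mul]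
          rcases hπk with u | u <;> rcases hπk' with u' | u' <;> rw [u, u'] <;> simp [e13, e14]
        · refine ⟨k * k', mul_mem hk hk', Or.inr ⟨?_, ?_⟩⟩
          · rw [map_mul]
            rcases hπk with u | u <;> rcases hπk' with u' | u' <;> rw [u, u'] <;> simp [e15]
          · rw [mul_assoc, ← hkr k' hk', ← mul_assoc]
        · refine ⟨k * k' * (r * r), mul_mem (mul_mem hk hk') hrr, Or.inl ⟨?_, ?_⟩⟩
          · rw [map_mul, map_mul, map_mul, hπr, mul_one, mul_one]
            rcases hπk with u | u <;> rcases hπk' with u' | u' <;> rw [u, u'] <;>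
              simp [ha, e11, e12, e16]
          · calc k * r * (k' * r) = k * (r * k') * r := by group
              _ = k * (k' * r) * r := by rw [hkr k' hk']
              _ = k * k' * (r * r) := by group }
  let W : Subgroup G :=
    { W0 with
      inv_mem' := fun {x} hx => by
        have h : x⁻¹ = x ^ (orderOf x - 1) := inv_eq_of_mul_eq_one_right (by
          rw [← pow_succ', Nat.sub_add_cancel (orderOf_pos x), pow_orderOf_eq_one])
        show x⁻¹ ∈ W0
        rw [h]
        exact pow_mem hx _ }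
  have hW2 : IsPGroup 2 W := by
    rintro ⟨x, hx⟩
    refine ⟨2, Subtype.ext ?_⟩
    obtain ⟨k, hk, h⟩ := hx
    have hx2 : x * x ∈ K ∧ π (x * x) = 1 := by
      rcases h with ⟨hπk, e⟩ | ⟨hπk, e⟩ <;> rw [e]
      · refine ⟨mul_mem hk hk, ?_⟩
        rw [map_mul]
        rcases hπk with u | u <;> rw [u] <;> simp [hb]
      · refine ⟨?_, ?_⟩
        · rw [show k * r * (k * r) = k * (r * k) * r by group, ← hkr k hk,
            show k * (k * r) * r = k * k * (r * r) by group]
          exact mul_mem (mul_mem hk hk) hrr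
        · rw [map_mul, map_mul, hπr, mul_one]
          rcases hπk with u | u <;> rw [u] <;> simp [ha, e16]
    have := hZ _ hx2.1 hx2.2
    show x ^ 2 ^ 2 = 1
    rw [show (2 : ℕ) ^ 2 = 2 * 2 from rfl, pow_mul, pow_two, pow_two]
    exact this
  have hmem : ∀ v : P13, (v = 1 ∨ v = b ∨ v = a ∨ v = a * b) → ∃ x ∈ W, π x = v := by
    intro v hv
    obtain ⟨k, hk, hkv⟩ : ∃ k ∈ K, π k = v := (hKX.symm ▸ Subgroup.mem_top v : v ∈ K.map π)
    rcases hv with h | h | h | h
    · exact ⟨k, ⟨k, hk, Or.inl ⟨Or.inl (hkv.trans h), rfl⟩⟩, hkv⟩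
    · exact ⟨k, ⟨k, hk, Or.inl ⟨Or.inr (hkv.trans h), rfl⟩⟩, hkv⟩
    · exact ⟨k * r, ⟨k, hk, Or.inr ⟨Or.inl (hkv.trans h), rfl⟩⟩, by rw [map_mul, hπr, mul_one, hkv]⟩
    · exact ⟨k * r, ⟨k, hk, Or.inr ⟨Or.inr (hkv.trans h), rfl⟩⟩, by rw [map_mul, hπr, mul_one, hkv]⟩
  have hWR : ¬ W ≤ π.ker := by
    intro h
    obtain ⟨x, hx, hxe⟩ := hmem a (Or.inr (Or.inr (Or.inl rfl)))
    exact ha1 (hxe ▸ MonoidHom.mem_ker.1 (h hx))
  obtain ⟨n, hn, hnc⟩ : ∃ n ∈ K, π n = c := (hKX.symm ▸ Subgroup.mem_top c : c ∈ K.map π)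
  have hnorm : ∀ x ∈ W, ∃ x' ∈ W, π x' = π (n * x * n⁻¹) := by
    intro x hx
    rw [map_mul, map_mul, map_inv, hnc]
    apply hmem
    obtain ⟨k, hk, h⟩ := hx
    rcases h with ⟨hπk, e⟩ | ⟨hπk, e⟩ <;> rw [e]
    · rcases hπk with u | u <;> rw [u]
      · left; rw [mul_one, mul_inv_cancel]
      · right; right; right; exact hcb
    · rw [map_mul, hπr, mul_one]
      rcases hπk with u | u <;> rw [u]
      · right; left; exact hca
      · right; right; left
        rw [show c * (a * b) * c⁻¹ = (c * a * c⁻¹) * (c * b * c⁻¹) by group, hca, hcb, e14]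
  obtain ⟨k, hk, hka⟩ : ∃ k ∈ K, π k = a := (hKX.symm ▸ Subgroup.mem_top a : a ∈ K.map π)
  have hm := hπ.norm W (isBiprimary_of_isPGroup Nat.prime_two hW2) hWR n hnorm (k * r)
    ⟨k, hk, Or.inr ⟨Or.inl hka, rfl⟩⟩
  have hnk : n * (k * r) * n⁻¹ = n * k * n⁻¹ * r := by
    calc n * (k * r) * n⁻¹ = n * k * (r * n⁻¹) := by group
      _ = n * k * (n⁻¹ * r) := by rw [hkr n⁻¹ (inv_mem hn)]
      _ = n * k * n⁻¹ * r := by group
  rw [hnk] at hm
  have hk1 : n * k * n⁻¹ ∈ K := hKn.conj_mem k hk n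
  have hπk1 : π (n * k * n⁻¹) = b := by rw [map_mul, map_mul, map_inv, hnc, hka, hca]
  obtain ⟨k', hk', h⟩ := hm
  rcases h with ⟨-, e⟩ | ⟨hπk', e⟩
  · exact hrK (by
      have := mul_mem (inv_mem hk1) (e.symm ▸ hk' : n * k * n⁻¹ * r ∈ K)
      rwa [inv_mul_cancel_left] at this)
  · rw [← mul_right_cancel e, hπk1] at hπk'
    rcases hπk' with h | h
    · exact hab h.symm
    · exact ha1 (mul_right_cancel (h.symm.trans (one_mul b).symm))

end Over

/-- The structure theorem. -/
theorem main (hG : HasMaxNorm G) (hns : ¬ Group.IsSolvable G) :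
    ∃ K S : Subgroup G, K.Normal ∧ S.Normal ∧ K ⊓ S = ⊥ ∧ K ⊔ S = ⊤ ∧
      (Nonempty (K ≃* P13) ∨
        Nonempty (K ≃* Matrix.SpecialLinearGroup (Fin 2) (ZMod 13))) ∧
      IsMulCommutative S ∧ (Nat.card K).Coprime (Nat.card S) := by
  obtain ⟨π, hπ⟩ := exists_over hG hns
  obtain ⟨K, hKn, hKperf, hKX, hmin⟩ := hπ.exists_core
  let σ : K →* P13 := π.comp K.subtype
  have hσs : Function.Surjective σ := fun v => by
    obtain ⟨k, hk, hkv⟩ := (hKX.symm ▸ Subgroup.mem_top v : v ∈ K.map π)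
    exact ⟨⟨k, hk⟩, hkv⟩
  have hσc : σ.ker ≤ center K := fun z hz => Subgroup.mem_center_iff.2 fun k =>
    Subtype.ext (hπ.commute_core hmin k.2 (MonoidHom.mem_ker.2 (MonoidHom.mem_ker.1 hz)))
  have hperf : commutator K = ⊤ := Subgroup.map_injective K.subtype_injective (by
    rw [Subgroup.map_subtype_commutator, hKperf, ← MonoidHom.range_eq_map, Subgroup.range_subtype])
  obtain ⟨hd2, hiso⟩ := p13_covering σ hσs hσc hperf
  have hZ : ∀ z ∈ K, π z = 1 → z * z = 1 := by
    intro z hz hz1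
    have h1 : orderOf z ∣ 2 := by
      have := (Subgroup.orderOf_dvd_natCard σ.ker
        (x := (⟨z, hz⟩ : K)) (MonoidHom.mem_ker.2 hz1)).trans hd2
      rwa [Subgroup.orderOf_mk] at this
    rw [← pow_two]
    exact orderOf_dvd_iff_pow_eq_one.1 h1
  let S : Subgroup G :=
    { carrier := {x | x ∈ π.ker ∧ Odd (orderOf x)}
      one_mem' := ⟨one_mem _, by simp⟩
      mul_mem' := by
        rintro x y ⟨hx, hxo⟩ ⟨hy, hyo⟩
        refine ⟨mul_mem hx hy, (hxo.mul hyo).of_dvd_nat ?_⟩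
        have hc : Commute x y :=
          (Subgroup.mem_center_iff.1 (hπ.odd_central hKX hmin hy hyo) x)
        exact hc.orderOf_mul_dvd_lcm.trans (Nat.lcm_dvd_mul _ _)
      inv_mem' := by
        rintro x ⟨hx, hxo⟩
        exact ⟨inv_mem hx, by rwa [orderOf_inv]⟩ }
  have hSc : ∀ x ∈ S, x ∈ center G := fun x hx => hπ.odd_central hKX hmin hx.1 hx.2
  refine ⟨K, S, hKn, ⟨fun x hx g => ?_⟩, ?_, ?_, hiso, ⟨⟨fun x y => ?_⟩⟩, ?_⟩
  · rw [Subgroup.mem_center_iff.1 (hSc x hx) g, mul_inv_cancel_right]; exact hx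
  · rw [Subgroup.eq_bot_iff_forall]
    rintro x ⟨hxK, hxR, hxo⟩
    have h2 : orderOf x ∣ 2 :=
      orderOf_dvd_of_pow_eq_one (by rw [pow_two]; exact hZ x hxK (MonoidHom.mem_ker.1 hxR))
    rcases (Nat.dvd_prime Nat.prime_two).1 h2 with h | h
    · exact orderOf_eq_one_iff.1 h
    · rw [h] at hxo; exact absurd hxo (by decide)
  · refine eq_top_iff.2 fun g _ => ?_
    obtain ⟨k, hk, r, hr, rfl⟩ := hπ.mul_core hKX g
    refine mul_mem (Subgroup.mem_sup_left hk) ?_
    have h : (K ⊔ S).subgroupOf π.ker = ⊤ := H35.eq_top_of_prime_pow_mem _ fun q b x hq hx => by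
      rw [Subgroup.mem_subgroupOf]
      rw [← Subgroup.orderOf_coe] at hx
      rcases eq_or_ne q 2 with rfl | hq2
      · refine Subgroup.mem_sup_left ?_
        have key : ∀ (b : ℕ) (z : G), z ∈ π.ker → z ^ 2 ^ b = 1 → z ∈ K := by
          intro b
          induction b with
          | zero => intro z _ hz; rw [pow_zero, pow_one] at hz; rw [hz]; exact one_mem _
          | succ b ih =>
            intro z hz hzb
            refine hπ.two_mem hKn hKX hmin hZ hz (ih _ (mul_mem hz hz) ?_)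
            rw [← pow_two, ← pow_mul, ← pow_succ', hzb]
        exact key b x x.2 (by rw [← hx, pow_orderOf_eq_one])
      · exact Subgroup.mem_sup_right ⟨x.2, hx ▸ (hq.odd_of_ne_two hq2).pow⟩
    exact (Subgroup.subgroupOf_eq_top.1 h) hr
  · exact Subtype.ext ((Subgroup.mem_center_iff.1 (hSc y y.2) x))
  · refine Nat.coprime_of_dvd fun q hq hqK hqS => ?_
    haveI := Fact.mk hq
    obtain ⟨x, hx⟩ := exists_prime_orderOf_dvd_card' q hqS
    rw [← Subgroup.orderOf_coe] at hx
    obtain ⟨hxR, hxo⟩ := x.2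
    rw [hx] at hxo
    have hcard : Nat.card K = Nat.card σ.ker * 1092 := by
      rw [← σ.ker.card_mul_index, Subgroup.index_ker, MonoidHom.range_eq_top.2 hσs,
        Subgroup.card_top, p13_card]
    have hq' : q ∣ (2 * 2 * 2) * (3 * 7 * 13) := by
      have h := mul_dvd_mul_right hd2 1092
      rw [← hcard] at h
      exact (hqK.trans h).trans (by norm_num)
    have hq3 : q = 3 ∨ q = 7 ∨ q = 13 := by
      rcases hq.dvd_mul.1 hq' with h | h
      · exfalso
        rw [show (2 * 2 * 2 : ℕ) = 2 ^ 3 from rfl] at h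
        rw [(Nat.prime_dvd_prime_iff_eq hq Nat.prime_two).1 (hq.dvd_of_dvd_pow h)] at hxo
        exact absurd hxo (by decide)
      · rcases hq.dvd_mul.1 h with h' | h'
        · rcases hq.dvd_mul.1 h' with h'' | h''
          · exact Or.inl ((Nat.prime_dvd_prime_iff_eq hq Nat.prime_three).1 h'')
          · exact Or.inr (Or.inl ((Nat.prime_dvd_prime_iff_eq hq (by norm_num)).1 h''))
        · exact Or.inr (Or.inr ((Nat.prime_dvd_prime_iff_eq hq (by norm_num)).1 h'))
    exact hπ.no_order hKn hKX hmin hZ hq3 hxR hx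

end H29.MaxNorm
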