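import Cfsg.Agent.H29.MaxNorm.Basic

/-!
Centralizers of involutions in a group with maximal normalizers and trivial soluble radical.
-/

set_option autoImplicit false
set_option linter.style.haveILetI false
set_option linter.unusedSectionVars false

namespace H29.MaxNorm

open Subgroup

variable {X : Type*} [Group X] [Finite X]

theorem cent_eq_normalizer {t : X} (ht : orderOf t = 2) :
    centralizer ({t} : Set X) = normalizer ((zpowers t : Subgroup X) : Set X) := by
  have ht1 : t ≠ 1 := fun e => by rw [e, orderOf_one] at ht; omega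
  have hmem : ∀ x ∈ zpowers t, x = 1 ∨ x = t := by
    intro x hx
    obtain ⟨k, rfl⟩ := mem_zpowers_iff.1 hx
    have h2 : t ^ (2 : ℤ) = 1 := by
      rw [show (2 : ℤ) = ((2 : ℕ) : ℤ) from rfl, zpow_natCast, ← ht, pow_orderOf_eq_one]
    rcases Int.even_or_odd k with ⟨j, rfl⟩ | ⟨j, rfl⟩
    · left; rw [← two_mul, zpow_mul, h2, one_zpow]
    · right; rw [zpow_add, zpow_mul, h2, one_zpow, one_mul, zpow_one]
  refine le_antisymm (fun g hg => ?_) (fun g hg => ?_)
  · refine mem_normalizer_of_conj_le fun x hx => ?_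
    rcases hmem x hx with rfl | rfl
    · simp
    · rw [mem_centralizer_singleton_iff.1 hg, mul_inv_cancel_right]; exact hx
  · rcases hmem _ (conj_mem_of_normalizer hg (mem_zpowers t)) with h | h
    · exact absurd (conj_eq_one_iff.1 h) ht1
    · exact mem_centralizer_singleton_iff.2 (mul_inv_eq_iff_eq_mul.1 h)

theorem isPGroup_zpowers {p k : ℕ} [Fact p.Prime] {x : X} (h : orderOf x ∣ p ^ k) :
    IsPGroup p (zpowers x) := by
  obtain ⟨j, -, hj⟩ := (Nat.dvd_prime_pow Fact.out).1 h
  exact IsPGroup.of_card (by rw [Nat.card_zpowers, hj])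

theorem zpowers_ne_bot' {x : X} (h : x ≠ 1) : zpowers x ≠ ⊥ := fun e => h (zpowers_eq_bot.1 e)

/-- An element of `⟨y⟩` for `y` of prime order is trivial or generates. -/
theorem mem_zpowers_of_prime {p : ℕ} [Fact p.Prime] {y u : X} (hy : orderOf y = p)
    (hu : u ∈ zpowers y) (hu1 : u ≠ 1) : y ∈ zpowers u := by
  have hle : zpowers u ≤ zpowers y := zpowers_le.2 hu
  have hcard : Nat.card (zpowers u) = p := by
    rcases (Nat.dvd_prime Fact.out).1 (hy ▸ Nat.card_zpowers y ▸ card_dvd_of_le hle) with h | h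
    · exact absurd (Subgroup.card_eq_one.1 h) (zpowers_ne_bot' hu1)
    · exact h
  rw [Subgroup.eq_of_le_of_card_ge hle (by rw [hcard, Nat.card_zpowers, hy])]
  exact mem_zpowers y

/-- An involution normalising `⟨y⟩` of prime order centralises or inverts `y`. -/
theorem commute_or_inverts {p : ℕ} [Fact p.Prime] {y a : X} (hy : orderOf y = p) (ha : a * a = 1)
    (hn : a * y * a⁻¹ ∈ zpowers y) : a * y = y * a ∨ a * y * a⁻¹ = y⁻¹ := by
  set u := y * (a * y * a⁻¹) with hu
  by_cases h1 : u = 1
  · exact Or.inr (eq_inv_of_mul_eq_one_right h1)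
  left
  have hc : Commute y (a * y * a⁻¹) := by
    obtain ⟨k, hk⟩ := mem_zpowers_iff.1 hn
    rw [← hk]; exact Commute.self_zpow y k
  have hai : a⁻¹ = a := inv_eq_of_mul_eq_one_right ha
  have hau : Commute a u := by
    show a * u = u * a
    calc a * u = (a * y * a⁻¹) * ((a * a) * y * (a⁻¹ * a⁻¹) * a) := by rw [hu]; group
      _ = (a * y * a⁻¹) * y * a := by rw [ha, hai, ha]; group
      _ = u * a := by rw [hu, hc.eq]
  obtain ⟨k, hk⟩ := mem_zpowers_iff.1 (mem_zpowers_of_prime hy (mul_mem (mem_zpowers y) hn) h1)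
  rw [← hk]
  exact hau.zpow_right k

/-- Two commuting involutions normalising a group of prime order: one of them or their product
centralises it. -/
theorem exists_centralizing {p : ℕ} [Fact p.Prime] {y a b : X} (hy : orderOf y = p)
    (ha : a * a = 1) (hb : b * b = 1) (hna : a * y * a⁻¹ ∈ zpowers y)
    (hnb : b * y * b⁻¹ ∈ zpowers y) : a * y = y * a ∨ b * y = y * b ∨ a * b * y = y * (a * b) := by
  rcases commute_or_inverts hy ha hna with h | h
  · exact Or.inl h
  rcases commute_or_inverts hy hb hnb with h' | h'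
  · exact Or.inr (Or.inl h')
  refine Or.inr (Or.inr ?_)
  rw [← mul_inv_eq_iff_eq_mul]
  calc a * b * y * (a * b)⁻¹ = a * (b * y * b⁻¹) * a⁻¹ := by group
    _ = (a * y * a⁻¹)⁻¹ := by rw [h']; group
    _ = y := by rw [h, inv_inv]

namespace Core

variable (hX : Core X)
include hX

theorem isCoatom_cent {t : X} (ht : orderOf t = 2) : IsCoatom (centralizer ({t} : Set X)) := by
  haveI : Fact (Nat.Prime 2) := ⟨Nat.prime_two⟩
  rw [cent_eq_normalizer ht]
  exact hX.coatom _ (zpowers_ne_bot' fun e => by rw [e, orderOf_one] at ht; omega)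
    (isBiprimary_of_isPGroup Nat.prime_two (isPGroup_zpowers (k := 1) (by rw [ht, pow_one])))

/-- Normalisers of nontrivial `p`-subgroups are self-normalising. -/
theorem normalizer_normalizer_pgroup {p : ℕ} [Fact p.Prime] {H : Subgroup X} (hp : IsPGroup p H)
    (hH : H ≠ ⊥) : normalizer ((normalizer (H : Set X) : Subgroup X) : Set X) = normalizer (H : Set X) := by
  refine hX.normalizer_normalizer hH (isBiprimary_of_isPGroup Fact.out hp) (Or.inr fun hn => hH ?_)
  exact hX.eq_bot_of_subnormal_pgroup (Subgroup.IsSubnormal.step H _ Subgroup.le_normalizer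
    hn.isSubnormal Subgroup.normal_in_normalizer) hp

theorem normalizer_cent {t : X} (ht : orderOf t = 2) :
    normalizer ((centralizer ({t} : Set X) : Subgroup X) : Set X) = centralizer ({t} : Set X) := by
  haveI : Fact (Nat.Prime 2) := ⟨Nat.prime_two⟩
  rw [cent_eq_normalizer ht]
  exact hX.normalizer_normalizer_pgroup (isPGroup_zpowers (k := 1) (by rw [ht, pow_one]))
    (zpowers_ne_bot' fun e => by rw [e, orderOf_one] at ht; omega)

/-- Odd prime power subgroups of an involution centraliser have that centraliser as normaliser. -/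
theorem normalizer_odd {q : ℕ} [Fact q.Prime] (hq : q ≠ 2) {t : X} (ht : orderOf t = 2)
    {K : Subgroup X} (hK : IsPGroup q K) (hK1 : K ≠ ⊥) (hKt : K ≤ centralizer ({t} : Set X)) :
    normalizer (K : Set X) = centralizer ({t} : Set X) := by
  haveI : Fact (Nat.Prime 2) := ⟨Nat.prime_two⟩
  have ht1 : t ≠ 1 := fun e => by rw [e, orderOf_one] at ht; omega
  have hle : centralizer ({t} : Set X) ≤ normalizer (K : Set X) := by
    refine hX.le_normalizer_of_le_centralizer (Ne.symm hq) (isPGroup_zpowers (k := 1) (by rw [ht, pow_one]))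
      (zpowers_ne_bot' ht1) hK ?_ hKt
    intro g hg
    refine mem_centralizer_iff.2 fun x hx => ?_
    obtain ⟨k, rfl⟩ := mem_zpowers_iff.1 hx
    exact ((show Commute g t from mem_centralizer_singleton_iff.1 hg).zpow_right k).eq.symm
  rcases eq_or_lt_of_le hle with e | e
  · exact e.symm
  · exact absurd ((hX.isCoatom_cent ht).2 _ e)
      (hX.normalizer_ne_top hK1 (isBiprimary_of_isPGroup Fact.out hK))

/-- Two involutions centralising a common odd prime power element have the same centraliser. -/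
theorem cent_eq_of_commute {q k : ℕ} [Fact q.Prime] (hq : q ≠ 2) {t t' x : X} (ht : orderOf t = 2)
    (ht' : orderOf t' = 2) (hx : orderOf x ∣ q ^ k) (hx1 : x ≠ 1) (h : x * t = t * x)
    (h' : x * t' = t' * x) : centralizer ({t} : Set X) = centralizer ({t'} : Set X) := by
  rw [← hX.normalizer_odd hq ht (isPGroup_zpowers hx) (zpowers_ne_bot' hx1)
      (zpowers_le.2 (mem_centralizer_singleton_iff.2 h)),
    hX.normalizer_odd hq ht' (isPGroup_zpowers hx) (zpowers_ne_bot' hx1)
      (zpowers_le.2 (mem_centralizer_singleton_iff.2 h'))]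

/-- An involution with another centraliser inverts the odd prime power elements of `C(t)`. -/
theorem inverts_of_cent_ne {q k : ℕ} [Fact q.Prime] (hq : q ≠ 2) {t w x : X} (ht : orderOf t = 2)
    (hw : orderOf w = 2) (hwt : w ∈ centralizer ({t} : Set X))
    (hne : centralizer ({w} : Set X) ≠ centralizer ({t} : Set X))
    (hx : orderOf x ∣ q ^ k) (hxt : x ∈ centralizer ({t} : Set X)) : w * x * w⁻¹ = x⁻¹ := by
  rcases eq_or_ne x 1 with rfl | hx1
  · simp
  have hn : w ∈ normalizer ((zpowers x : Subgroup X) : Set X) := by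
    rw [hX.normalizer_odd hq ht (isPGroup_zpowers hx) (zpowers_ne_bot' hx1) (zpowers_le.2 hxt)]
    exact hwt
  have hwx := conj_mem_of_normalizer hn (mem_zpowers x)
  set u := x * (w * x * w⁻¹) with hu
  have hww : w * w = 1 := by rw [← pow_two, ← hw]; exact pow_orderOf_eq_one w
  have hwi : w⁻¹ = w := inv_eq_of_mul_eq_one_right hww
  by_contra hne'
  have hu1 : u ≠ 1 := fun e => hne' (eq_inv_of_mul_eq_one_right e)
  have hc : Commute x (w * x * w⁻¹) := by
    obtain ⟨j, hj⟩ := mem_zpowers_iff.1 hwx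
    rw [← hj]; exact Commute.self_zpow x j
  have hmem : u ∈ zpowers x := mul_mem (mem_zpowers x) hwx
  refine hne (hX.cent_eq_of_commute (k := k) hq hw ht
    ((orderOf_dvd_of_mem_zpowers hmem).trans hx) hu1 ?_
    (mem_centralizer_singleton_iff.1 (zpowers_le.2 hxt hmem)))
  calc u * w = (w * x * w⁻¹) * x * w := by rw [hu, hc.eq]
    _ = (w * x * w⁻¹) * ((w * w) * x * (w⁻¹ * w⁻¹) * w) := by rw [hww, hwi, hww]; group
    _ = w * u := by rw [hu]; group

/-- A fourth root in the centraliser: an element of order four squaring to `t` commutes with the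
odd prime power elements of `C(t)`. -/
theorem four_commute {q k : ℕ} [Fact q.Prime] (hq : q ≠ 2) {t s x : X} (ht : orderOf t = 2)
    (hs : s * s = t) (hx : orderOf x ∣ q ^ k) (hxt : x ∈ centralizer ({t} : Set X)) :
    s * x = x * s := by
  haveI : Fact (Nat.Prime 2) := ⟨Nat.prime_two⟩
  rcases eq_or_ne x 1 with rfl | hx1
  · simp
  have htt : t * t = 1 := by rw [← pow_two, ← ht]; exact pow_orderOf_eq_one t
  have hs4 : orderOf s ∣ 2 ^ 2 := orderOf_dvd_of_pow_eq_one (by
    rw [show s ^ 2 ^ 2 = (s * s) * (s * s) by simp [pow_succ, mul_assoc], hs, htt])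
  have hs1 : s ≠ 1 := fun e => by rw [e, one_mul] at hs; rw [← hs, orderOf_one] at ht; omega
  have hle : normalizer ((zpowers s : Subgroup X) : Set X) ≤ centralizer ({t} : Set X) := by
    intro g hg
    obtain ⟨j, hj⟩ := mem_zpowers_iff.1 (conj_mem_of_normalizer hg (mem_zpowers s))
    have hst : s ^ (2 : ℤ) = t := by rw [zpow_two, hs]
    have hgt : g * t * g⁻¹ ∈ zpowers t := ⟨j, by
      show t ^ j = g * t * g⁻¹
      rw [← hst, ← zpow_mul, mul_comm, zpow_mul, hj, conj_zpow]⟩
    rw [cent_eq_normalizer ht]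
    refine mem_normalizer_of_conj_le fun y hy => ?_
    obtain ⟨i, rfl⟩ := mem_zpowers_iff.1 hy
    rw [← conj_zpow]
    exact zpow_mem hgt i
  have hN : normalizer ((zpowers s : Subgroup X) : Set X) = centralizer ({t} : Set X) := by
    rw [cent_eq_normalizer ht] at hle ⊢
    exact hX.normalizer_eq (zpowers_ne_bot' hs1)
      (isBiprimary_of_isPGroup Nat.prime_two (isPGroup_zpowers hs4))
      (zpowers_ne_bot' fun e => by rw [e, orderOf_one] at ht; omega)
      (isBiprimary_of_isPGroup Nat.prime_two (isPGroup_zpowers (k := 1) (by rw [ht, pow_one]))) hle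
  have hxs : x * s * x⁻¹ ∈ zpowers s := conj_mem_of_normalizer (hN ▸ hxt) (mem_zpowers s)
  have hst : s ∈ centralizer ({t} : Set X) := mem_centralizer_singleton_iff.2 (by
    rw [← hs]; group)
  have hsx : s * x⁻¹ * s⁻¹ ∈ zpowers x := by
    refine conj_mem_of_normalizer ?_ (inv_mem (mem_zpowers x))
    rw [hX.normalizer_odd hq ht (isPGroup_zpowers hx) (zpowers_ne_bot' hx1) (zpowers_le.2 hxt)]
    exact hst
  have h1 : x * s * x⁻¹ * s⁻¹ ∈ zpowers s := mul_mem hxs (inv_mem (mem_zpowers s))
  have h2 : x * s * x⁻¹ * s⁻¹ ∈ zpowers x := by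
    rw [show x * s * x⁻¹ * s⁻¹ = x * (s * x⁻¹ * s⁻¹) by group]
    exact mul_mem (mem_zpowers x) hsx
  have hone : x * s * x⁻¹ * s⁻¹ = 1 := orderOf_eq_one_iff.1 (Nat.eq_one_of_dvd_coprimes
    (((Nat.coprime_primes Fact.out Nat.prime_two).2 hq).pow k 2)
    ((orderOf_dvd_of_mem_zpowers h2).trans hx) ((orderOf_dvd_of_mem_zpowers h1).trans hs4))
  exact (mul_inv_eq_iff_eq_mul.1 (mul_inv_eq_one.1 hone)).symm

/-- All odd prime power elements of `C(t)` lie in `⟨y⟩` once some involution has another centraliser. -/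
theorem odd_mem_zpowers {p q k : ℕ} [Fact p.Prime] [Fact q.Prime] (hp : p ≠ 2) (hq : q ≠ 2)
    {t w y x : X} (ht : orderOf t = 2) (hy : orderOf y = p) (hyt : y ∈ centralizer ({t} : Set X))
    (hw : orderOf w = 2) (hwt : w ∈ centralizer ({t} : Set X))
    (hne : centralizer ({w} : Set X) ≠ centralizer ({t} : Set X))
    (hx : orderOf x ∣ q ^ k) (hxt : x ∈ centralizer ({t} : Set X)) : x ∈ zpowers y := by
  haveI : Fact (Nat.Prime 2) := ⟨Nat.prime_two⟩
  have hy1 : y ≠ 1 := fun e => by rw [e, orderOf_one] at hy; exact (Fact.out : p.Prime).one_lt.ne hy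
  have hyp : IsPGroup p (zpowers y) := isPGroup_zpowers (k := 1) (by rw [hy, pow_one])
  have hN := hX.normalizer_odd hp ht hyp (zpowers_ne_bot' hy1) (zpowers_le.2 hyt)
  have hw2 : IsPGroup 2 (zpowers w) := isPGroup_zpowers (k := 1) (by rw [hw, pow_one])
  have hwn : zpowers w ≤ normalizer ((zpowers y : Subgroup X) : Set X) :=
    zpowers_le.2 (hN.symm ▸ hwt)
  have hconj : x * w * x⁻¹ = (x * x) * w := by
    have := hX.inverts_of_cent_ne hq ht hw hwt hne hx hxt
    rw [mul_inv_eq_iff_eq_mul] at this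
    calc x * w * x⁻¹ = x * (w * x⁻¹) := by group
      _ = x * (x * w) := by
        congr 1
        rw [mul_inv_eq_iff_eq_mul, mul_assoc x, this]; group
      _ = (x * x) * w := by group
  have hm : (x * x) * w ∈ zpowers y ⊔ zpowers w := hconj ▸
    hX.conj_mem_sup hp hyp (zpowers_ne_bot' hy1) hw2 hwn (hN.symm ▸ hxt) (mem_zpowers w)
  have hxx : x * x ∈ zpowers y ⊔ zpowers w := by
    have := mul_mem hm (inv_mem (Subgroup.mem_sup_right (mem_zpowers w)))
    rwa [mul_inv_cancel_right] at this
  have hxo : orderOf (x * x) ∣ q ^ k := by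
    rw [← pow_two]; exact (orderOf_pow_dvd 2).trans hx
  have hmem : x * x ∈ zpowers y := by
    rcases eq_or_ne p q with rfl | hpq
    · exact mem_left_of_mem_sup hp hyp hw2 hwn hxx hxo
    · obtain ⟨j, -, hj⟩ := (Nat.dvd_prime_pow Fact.out).1 hxo
      rcases Nat.eq_zero_or_pos j with rfl | hj0
      · rw [pow_zero, orderOf_eq_one_iff] at hj
        rw [hj]; exact one_mem _
      · exfalso
        have hdvd : q ∣ Nat.card ↥(zpowers y ⊔ zpowers w) :=
          ((hj ▸ dvd_pow_self q hj0.ne') : q ∣ orderOf (x * x)).trans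
            (Subgroup.orderOf_dvd_natCard _ hxx)
        have hset : ∀ r : ℕ, r.Prime → r ∣ Nat.card ↥(zpowers y ⊔ zpowers w) → r = p ∨ r = 2 := by
          intro r hr hd
          haveI := Fact.mk hr
          obtain ⟨g, hg⟩ := exists_prime_orderOf_dvd_card' (G := ↥(zpowers y ⊔ zpowers w)) r hd
          by_contra hh
          push Not at hh
          have hgo : orderOf (g : X) ∣ r ^ 1 := by rw [Subgroup.orderOf_coe, hg, pow_one]
          have hgm := g.2
          rw [← SetLike.mem_coe, Subgroup.coe_mul_of_right_le_normalizer_left _ _ hwn] at hgm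
          obtain ⟨u, hu, v, hv, huv⟩ := Set.mem_mul.1 hgm
          have hy2 : (g : X) * g ∈ zpowers y := by
            rw [← huv, show u * v * (u * v) = u * (v * u * v⁻¹) * (v * v) by group]
            refine mul_mem (mul_mem hu (conj_mem_of_normalizer (hwn hv) hu)) ?_
            obtain ⟨i, rfl⟩ := mem_zpowers_iff.1 hv
            rw [← zpow_add, ← two_mul, zpow_mul, zpow_two, ← pow_two, ← hw, pow_orderOf_eq_one,
              one_zpow]
            exact one_mem _
          have hg2 : orderOf ((g : X) * g) = r := by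
            rw [← pow_two, Nat.Coprime.orderOf_pow, Subgroup.orderOf_coe, hg]
            rw [Subgroup.orderOf_coe, hg]
            exact (Nat.coprime_primes hr Nat.prime_two).2 hh.2
          have := orderOf_dvd_of_mem_zpowers hy2
          rw [hg2, hy] at this
          exact hh.1 ((Nat.prime_dvd_prime_iff_eq hr Fact.out).1 this)
        rcases hset q Fact.out hdvd with h | h
        · exact hpq h.symm
        · exact hq h
  have hodd : Odd (orderOf x) := by
    obtain ⟨j, -, hj⟩ := (Nat.dvd_prime_pow Fact.out).1 hx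
    rw [hj]
    exact ((Fact.out : q.Prime).odd_of_ne_two hq).pow
  obtain ⟨m, hm⟩ := hodd
  have : x = (x * x) ^ (m + 1) := by
    rw [← pow_two, ← pow_mul, show 2 * (m + 1) = (2 * m + 1) + 1 by ring, pow_succ, ← hm,
      pow_orderOf_eq_one, one_mul]
  rw [this]
  exact pow_mem hmem _

/-- Two elements of a `2`-subgroup of `C(t)` : conjugates stay in the cyclic group. -/
theorem conj_mem_zpowers_of_two {p : ℕ} [Fact p.Prime] (hp : p ≠ 2) {t y : X} (ht : orderOf t = 2)
    (hy : orderOf y = p) (hyt : y ∈ centralizer ({t} : Set X)) {S : Subgroup X}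
    (hS : IsPGroup 2 S) (hSt : S ≤ centralizer ({t} : Set X)) {g s : X} (hg : g ∈ S) (hs : s ∈ S) :
    g * s * g⁻¹ ∈ zpowers s := by
  haveI : Fact (Nat.Prime 2) := ⟨Nat.prime_two⟩
  have hy1 : y ≠ 1 := fun e => by rw [e, orderOf_one] at hy; exact (Fact.out : p.Prime).one_lt.ne hy
  have hyp : IsPGroup p (zpowers y) := isPGroup_zpowers (k := 1) (by rw [hy, pow_one])
  have hN := hX.normalizer_odd hp ht hyp (zpowers_ne_bot' hy1) (zpowers_le.2 hyt)
  have hsn : zpowers s ≤ normalizer ((zpowers y : Subgroup X) : Set X) :=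
    zpowers_le.2 (hN.symm ▸ hSt hs)
  have hs2 : IsPGroup 2 (zpowers s) := hS.to_le (zpowers_le.2 hs)
  have hm := hX.conj_mem_sup hp hyp (zpowers_ne_bot' hy1) hs2 hsn (hN.symm ▸ hSt hg) (mem_zpowers s)
  rw [← SetLike.mem_coe, Subgroup.coe_mul_of_right_le_normalizer_left _ _ hsn] at hm
  obtain ⟨u, hu, v, hv, huv⟩ := Set.mem_mul.1 hm
  have huS : u ∈ S := by
    have e : u = g * s * g⁻¹ * v⁻¹ := by rw [← huv, mul_inv_cancel_right]
    rw [e]
    exact mul_mem (mul_mem (mul_mem hg hs) (inv_mem hg)) (inv_mem (zpowers_le.2 hs hv))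
  have hu1 : u = 1 := by
    obtain ⟨i, hi⟩ := IsPGroup.iff_orderOf.1 hS ⟨u, huS⟩
    rw [Subgroup.orderOf_mk] at hi
    refine orderOf_eq_one_iff.1 (Nat.eq_one_of_dvd_coprimes
      (((Nat.coprime_primes Fact.out Nat.prime_two).2 hp).pow 1 i) ?_ hi.dvd)
    rw [pow_one, ← hy]; exact orderOf_dvd_of_mem_zpowers hu
  rw [← huv, hu1, one_mul]
  exact hv

/-- Involutions of a `2`-subgroup of `C(t)` are central in it. -/
theorem invol_central {p : ℕ} [Fact p.Prime] (hp : p ≠ 2) {t y : X} (ht : orderOf t = 2)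
    (hy : orderOf y = p) (hyt : y ∈ centralizer ({t} : Set X)) {S : Subgroup X}
    (hS : IsPGroup 2 S) (hSt : S ≤ centralizer ({t} : Set X)) {g s : X} (hg : g ∈ S) (hs : s ∈ S)
    (hs2 : orderOf s = 2) : g * s = s * g := by
  have h := hX.conj_mem_zpowers_of_two hp ht hy hyt hS hSt hg hs
  have hn : g ∈ normalizer ((zpowers s : Subgroup X) : Set X) := by
    refine mem_normalizer_of_conj_le fun x hx => ?_
    obtain ⟨i, rfl⟩ := mem_zpowers_iff.1 hx
    rw [← conj_zpow]; exact zpow_mem h i
  rw [← cent_eq_normalizer hs2] at hn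
  exact mem_centralizer_singleton_iff.1 hn

/-- Only one involution of `C(t)` can centralise `y` when some conjugate of the situation moves. -/
theorem eq_of_commute_odd {p q : ℕ} [Fact p.Prime] [Fact q.Prime] (hp : p ≠ 2) (hq : q ≠ 2)
    {t w t' y y' : X} (ht : orderOf t = 2) (hw : orderOf w = 2) (htw : t * w = w * t)
    (hy : orderOf y = p) (hyt : y * t = t * y) (hyw : y * w = w * y)
    (ht' : orderOf t' = 2) (hy' : orderOf y' = q) (hy't : y' * t' = t' * y')
    (htt' : t * t' = t' * t) (hwt' : w * t' = t' * w)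
    (hne : centralizer ({t'} : Set X) ≠ centralizer ({t} : Set X)) : w = t := by
  have hy1 : y ≠ 1 := fun e => by rw [e, orderOf_one] at hy; exact (Fact.out : p.Prime).one_lt.ne hy
  have hy1' : y' ≠ 1 := fun e => by
    rw [e, orderOf_one] at hy'; exact (Fact.out : q.Prime).one_lt.ne hy'
  have hCw : centralizer ({w} : Set X) = centralizer ({t} : Set X) :=
    hX.cent_eq_of_commute (k := 1) hp hw ht (by rw [hy, pow_one]) hy1 hyw hyt
  by_contra hwt
  have hN := hX.normalizer_odd hq ht' (isPGroup_zpowers (k := 1) (by rw [hy', pow_one]))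
    (zpowers_ne_bot' hy1') (zpowers_le.2 (mem_centralizer_singleton_iff.2 hy't))
  have hsq : ∀ {a : X}, orderOf a = 2 → a * a = 1 := fun {a} ha => by
    rw [← pow_two, ← ha]; exact pow_orderOf_eq_one a
  have hn : ∀ {a : X}, a * t' = t' * a → a * y' * a⁻¹ ∈ zpowers y' := fun {a} ha =>
    conj_mem_of_normalizer (hN.symm ▸ mem_centralizer_singleton_iff.2 ha) (mem_zpowers y')
  rcases exists_centralizing hy' (hsq ht) (hsq hw) (hn htt') (hn hwt') with h | h | h
  · exact hne (hX.cent_eq_of_commute (k := 1) hq ht' ht (by rw [hy', pow_one]) hy1' hy't h.symm)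
  · exact hne (hCw ▸ hX.cent_eq_of_commute (k := 1) hq ht' hw (by rw [hy', pow_one]) hy1' hy't h.symm)
  · have htw2 : orderOf (t * w) = 2 := by
      refine orderOf_eq_prime ?_ fun e => hwt ?_
      · rw [pow_two, show t * w * (t * w) = t * (w * t) * w by group, ← htw,
          show t * (t * w) * w = (t * t) * (w * w) by group, hsq ht, hsq hw, one_mul]
      · rw [eq_inv_of_mul_eq_one_right e, inv_eq_of_mul_eq_one_right (hsq ht)]
    refine hne ((hX.cent_eq_of_commute (k := 1) hq ht' htw2 (by rw [hy', pow_one]) hy1' hy't h.symm).trans ?_)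
    refine hX.cent_eq_of_commute (k := 1) hp htw2 ht (by rw [hy, pow_one]) hy1 ?_ hyt
    exact ((show Commute y t from hyt).mul_right hyw).eq

end Core

end H29.MaxNorm
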